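import Groth.Agent.H60.RedLR.Semisimplify
import Groth.Agent.H1.Classical.Apply
import Groth.Agent.H66.Kolchin
import Groth.Agent.S18813
import Groth.Agent.H1.Classical.ParabolicField

/-!
Reductive groups in characteristic zero are the connected linearly reductive ones, over any field.
-/

set_option autoImplicit false

universe u

open TensorProduct CategoryTheory MonoidalCategory CartesianMonoidalCategory MonObj GrpObj AlgebraicGeometry CoordGrp
  Groth.Agent.Lib.Comod.Basic Groth.Agent.H1.Classical Groth.Agent.H1.Classical.Scheme'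
  Groth.Agent.Lib.RedPts.Points Groth.Agent.Lib.RedPts.BC Groth.Agent.Lib.GrpSch WithConv

attribute [local instance] baseAlgebra

namespace Groth.Agent.H60.RedLR

noncomputable section

section Transport

variable {k : Type u} [Field k]

/-- Reductivity over an algebraically closed field is invariant under isomorphism. -/
theorem isReductiveOver_congr {G G' : Over (Spec (CommRingCat.of k))} [GrpObj G] [GrpObj G'] (e : G ≅ G')
    [IsMonHom e.hom] (h : Red.IsReductiveOver k G) : Red.IsReductiveOver k G' := by
  obtain ⟨h1, h2, h3, h4⟩ := h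
  haveI : IsIso e.inv.left := ((Over.forget _).mapIso e).isIso_inv
  haveI : IsIso e.hom.left := ((Over.forget _).mapIso e).isIso_hom
  haveI := h1
  haveI := h2
  haveI := h3
  refine ⟨IsAffine.of_isIso e.inv.left, ?_, e.hom.left.surjective.connectedSpace e.hom.left.continuous, ?_⟩
  · rw [← Over.w e.inv]; infer_instance
  · intro U _ i _ hc hs hconn hn hU
    haveI := hc
    haveI : IsMonHom e.inv := inferInstance
    refine h4 U (i ≫ e.inv) (by rw [Over.comp_left]; infer_instance) hs hconn ?_ hU
    intro T g n
    obtain ⟨n', hn'⟩ := hn T (g ≫ e.hom) n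
    refine ⟨n', ?_⟩
    rw [← Category.assoc n', ← hn']
    simp only [MonObj.mul_comp, GrpObj.inv_comp, Category.assoc, Iso.hom_inv_id, Category.comp_id]

variable {A : Type u} [CommRing A] [HopfAlgebra k A] (K : Type u) [Field K] [Algebra k K]

variable (k A) in
/-- The projection of the group over the larger field. -/
def bcDown : (Over.map (extBase k K)).obj (GA K (K ⊗[k] A)) ⟶ GA k A :=
  Over.homMk (Spec.map (CommRingCat.ofHom (Algebra.TensorProduct.includeRight : A →ₐ[k] K ⊗[k] A).toRingHom)) (by
    show Spec.map _ ≫ Spec.map (CommRingCat.ofHom (algebraMap k A)) =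
      Spec.map (CommRingCat.ofHom (algebraMap K (K ⊗[k] A))) ≫ Spec.map (CommRingCat.ofHom (algebraMap k K))
    rw [← Spec.map_comp, ← Spec.map_comp]
    congr 1
    ext c
    show (Algebra.TensorProduct.includeRight : A →ₐ[k] K ⊗[k] A) (algebraMap k A c) =
      algebraMap K (K ⊗[k] A) (algebraMap k K c)
    rw [AlgHom.commutes]
    exact IsScalarTower.algebraMap_apply k K (K ⊗[k] A) c)

variable (k A) in
/-- The comparison of the group over the larger field with the base change. -/
def bcComp : GA K (K ⊗[k] A) ⟶ Red.bc (extBase k K) (GA k A) := up (extBase k K) (bcDown k A K)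

theorem comul_one_tmul (a : A) :
    CoalgebraStruct.comul (R := K) ((1 : K) ⊗ₜ[k] a) =
      TensorProduct.AlgebraTensorModule.tensorTensorTensorComm k K k K K K A A
        ((1 : K) ⊗ₜ[K] (1 : K) ⊗ₜ[k] CoalgebraStruct.comul (R := k) a) := by
  rw [TensorProduct.comul_tmul, Bialgebra.comul_one, Algebra.TensorProduct.one_def]

theorem bcDown_mul {W : Over (Spec (CommRingCat.of K))} (x y : W ⟶ GA K (K ⊗[k] A)) :
    (Over.map (extBase k K)).map (x * y) ≫ bcDown k A K =
      ((Over.map (extBase k K)).map x ≫ bcDown k A K) * ((Over.map (extBase k K)).map y ≫ bcDown k A K) := by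
  refine algHomOf_injective (AlgHom.ext fun a => ?_)
  rw [algHomOf_mul]
  have key : ∀ (z : W ⟶ GA K (K ⊗[k] A)) (a : A),
      algHomOf ((Over.map (extBase k K)).map z ≫ bcDown k A K) a = algHomOf z ((1 : K) ⊗ₜ[k] a) := fun z a => by
    show ((Scheme.ΓSpecIso (CommRingCat.of A)).inv ≫ (z.left ≫ Spec.map (CommRingCat.ofHom
      (Algebra.TensorProduct.includeRight : A →ₐ[k] K ⊗[k] A).toRingHom)).appTop).hom a = _
    refine (ringHomOf_comp z.left _ a).trans ?_
    rw [algHomOf_apply, ringHomOf_apply z.left]
    refine congrArg _ ?_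
    exact (congrArg (fun φ => φ.hom a) (Scheme.ΓSpecIso_inv_naturality (CommRingCat.ofHom
      (Algebra.TensorProduct.includeRight : A →ₐ[k] K ⊗[k] A).toRingHom))).symm
  rw [key, algHomOf_mul, comul_one_tmul]
  generalize CoalgebraStruct.comul (R := k) a = t
  induction t using TensorProduct.induction_on with
  | zero => simp
  | add p q hp hq => simp only [TensorProduct.tmul_add, map_add, hp, hq]
  | tmul p q =>
    rw [TensorProduct.AlgebraTensorModule.tensorTensorTensorComm_tmul, Algebra.TensorProduct.lift_tmul,
      Algebra.TensorProduct.lift_tmul, key, key]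

instance isMonHom_bcComp : IsMonHom (bcComp k A K) where
  mul_hom := by
    have h : ∀ {W : Over (Spec (CommRingCat.of K))} (x y : W ⟶ GA K (K ⊗[k] A)),
        (x * y) ≫ bcComp k A K = (x ≫ bcComp k A K) * (y ≫ bcComp k A K) := fun x y => by
      apply down_injective
      simp only [down_mul, down_comp, bcComp, down_up, bcDown_mul]
    have := h (fst (GA K (K ⊗[k] A)) (GA K (K ⊗[k] A))) (snd _ _)
    simp only [Hom.mul_def, lift_fst_snd, Category.id_comp] at this
    rw [this]
    congr 1
  one_hom := by
    let m : (𝟙_ (Over (Spec (CommRingCat.of K))) ⟶ GA K (K ⊗[k] A)) →*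
        (𝟙_ (Over (Spec (CommRingCat.of K))) ⟶ Red.bc (extBase k K) (GA k A)) :=
      MonoidHom.mk' (fun x => x ≫ bcComp k A K) fun x y => by
        apply down_injective
        simp only [down_mul, down_comp, bcComp, down_up, bcDown_mul]
    have h1 : (1 : 𝟙_ (Over (Spec (CommRingCat.of K))) ⟶ GA K (K ⊗[k] A)) = η := by
      rw [Hom.one_def, toUnit_unique (toUnit _) (𝟙 _), Category.id_comp]
    have h2 : (1 : 𝟙_ (Over (Spec (CommRingCat.of K))) ⟶ Red.bc (extBase k K) (GA k A)) = η := by
      rw [Hom.one_def, toUnit_unique (toUnit _) (𝟙 _), Category.id_comp]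
    rw [← h1, ← h2]
    exact map_one m

instance isIso_bcComp : IsIso (bcComp k A K) := by
  haveI : IsIso (bcComp k A K).left := by
    have hp : IsPullback (Spec.map (CommRingCat.ofHom
        (Algebra.TensorProduct.includeRight : A →ₐ[k] K ⊗[k] A).toRingHom))
        (Spec.map (CommRingCat.ofHom (algebraMap K (K ⊗[k] A))))
        (Spec.map (CommRingCat.ofHom (algebraMap k A))) (extBase k K) :=
      (isPullback_SpecMap_of_isPushout _ _ _ _ (CommRingCat.isPushout_tensorProduct k K A)).flip
    have h1 : (bcComp k A K).left ≫ bcProj (extBase k K) (GA k A) =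
        Spec.map (CommRingCat.ofHom (Algebra.TensorProduct.includeRight : A →ₐ[k] K ⊗[k] A).toRingHom) := by
      have := congrArg CommaMorphism.left (down_up (f := extBase k K) (bcDown k A K))
      exact (down_left (bcComp k A K)).symm.trans this
    have h2 : (bcComp k A K).left ≫ (Red.bc (extBase k K) (GA k A)).hom =
        Spec.map (CommRingCat.ofHom (algebraMap K (K ⊗[k] A))) := Over.w _
    have : (bcComp k A K).left = (hp.isoIsPullback _ _ (isPullback_bc (extBase k K) (GA k A))).hom :=
      (isPullback_bc (extBase k K) (GA k A)).hom_ext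
        (h1.trans (IsPullback.isoIsPullback_hom_fst _ _ hp _).symm) (h2.trans (IsPullback.isoIsPullback_hom_snd _ _ hp _).symm)
    rw [this]
    infer_instance
  haveI : IsIso ((Over.forget (Spec (CommRingCat.of K))).map (bcComp k A K)) := this
  exact isIso_of_reflects_iso (bcComp k A K) (Over.forget _)

end Transport

section Faithful

variable {k : Type u} [Field k] {A : Type u} [CommRing A] [HopfAlgebra k A] [Algebra.FiniteType k A]

/-- A faithful representation on points. -/
theorem exists_faithful_comod :
    ∃ (V : Type u) (_ : AddCommGroup V) (_ : Module k V) (_ : FiniteDimensional k V) (_ : HopfRep.Comod k A V),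
      Function.Injective (ComodPts.rep (k := k) (A := A) V) := by
  classical
  obtain ⟨N, π, hπ⟩ := Groth.Agent.S16480.result k A
  refine ⟨Fin N → k, inferInstance, inferInstance, inferInstance, eComod π, fun g h hgh => ?_⟩
  letI := eComod π
  have hco : ∀ (χ : HopfPts.Pt k A) (i j : Fin N),
      χ.ofConv (π (GLn.X i j)) = ComodPts.rep (Fin N → k) χ (Pi.single j 1) i := fun χ i j => by
    have h := apply_dact (A := A) (LinearMap.proj (R := k) i) χ.ofConv.toLinearMap (Pi.single j 1 : Fin N → k)
    rw [coeff_proj] at h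
    simpa [Pi.single_apply, eMat, ComodPts.rep_apply, ComodPts.act_eq] using h.symm
  refine ofConv_injective (AlgHom.ext fun a => ?_)
  obtain ⟨f, rfl⟩ := hπ a
  exact AlgHom.congr_fun (HM.algHom_ext_X (f := g.ofConv.comp (π : GLn N k →ₐ[k] A))
    (g := h.ofConv.comp (π : GLn N k →ₐ[k] A)) fun i j => by
      simp only [AlgHom.comp_apply]
      exact (hco g i j).trans ((congrArg (fun T : Module.End k (Fin N → k) => T (Pi.single j 1) i) hgh).trans
        (hco h i j).symm)) f

end Faithful

section AlgClosed

variable {k : Type u} [Field k] [IsAlgClosed k] [CharZero k] {A : Type u} [CommRing A] [HopfAlgebra k A]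
  [Algebra.FiniteType k A]

theorem smooth_of_charZero : Smooth (GA k A).hom :=
  haveI : _root_.IsReduced A := Lib.Comod.Cartier.isReduced (k := k) (H := A)
  smooth_GA

/-- A connected linearly reductive group is reductive. -/
theorem isReductiveOver_of_isLinearlyReductive [IsDomain A] (hLR : HopfRep.IsLinearlyReductive k A) :
    Red.IsReductiveOver k (GA k A) := by
  classical
  haveI : AlgebraicGeometry.IsIntegral (GA k A).left :=
    inferInstanceAs (AlgebraicGeometry.IsIntegral (Spec (CommRingCat.of A)))
  refine ⟨inferInstance, smooth_of_charZero, inferInstance, fun U _ i _ hci hsm hconn hnor hU => ?_⟩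
  haveI := hci
  haveI := hsm
  haveI := hconn
  haveI : IsAffine U.left := isAffine_of_isAffineHom i.left
  haveI : Mono i := Over.mono_of_mono_left i
  obtain ⟨A', _, _, _, _, e, he⟩ := MaxTorusApply.exists_GA U
  haveI := he
  haveI : IsMonHom e.inv := inferInstance
  obtain ⟨r, hr, hrreg⟩ := exists_ptMap (e.inv ≫ i)
  obtain ⟨W', _, σ', hσ'⟩ := Torus.GenRep.exists_gen (HopfPts.D k A') hasMul_pts pts_ext
  have h' : Red.HasNoSubtorus k (GA k A') := fun T _ j _ _ hT => hU T (j ≫ e.inv) hT
  obtain ⟨V, _, _, _, _, hf⟩ := exists_faithful_comod (k := k) (A := A)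
  set ρ := ComodPts.rep (k := k) (A := A) V
  have hnil : ∀ χ, IsNilpotent (ρ (r χ) - 1) := fun χ =>
    Torus.ImageTorus.nilp_of_gen hσ' (Unipotent.nilp_GA h' hσ' χ) (ρ := ρ.comp r)
      fun w l => hrreg _ (ComodPts.endFn V w l)
  let F : Submodule k V := ⨅ χ, LinearMap.ker (ρ (r χ) - 1)
  have hmem : ∀ v, v ∈ F ↔ ∀ χ, ρ (r χ) v = v := fun v => by
    simp [F, Submodule.mem_iInf, sub_eq_zero]
  have hFs : HopfRep.IsSubcomod (k := k) (A := A) F := by
    refine ComodPts.isSubcomod_of_stable V F fun g w hw => (hmem _).2 fun χ => ?_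
    obtain ⟨n', hn'⟩ := hnor _ (ptHom _ g⁻¹) (ptHom _ χ ≫ e.inv)
    obtain ⟨χ', hχ'⟩ := ptHom_surjective (n' ≫ e.hom)
    have hconj : g⁻¹ * r χ * g = r χ' := ptHom_injective (A := A) (by
      rw [map_mul, map_mul, ← hr χ']
      calc ptHom _ g⁻¹ * ptHom _ (r χ) * ptHom _ g
          = ptHom _ g⁻¹ * ((ptHom _ χ ≫ e.inv) ≫ i) * (ptHom _ g⁻¹)⁻¹ := by
            rw [← hr χ, Category.assoc, map_inv, _root_.inv_inv]
        _ = n' ≫ i := hn'
        _ = _ := by rw [hχ', Category.assoc, e.hom_inv_id_assoc])
    rw [← Module.End.mul_apply, ← map_mul, show r χ * g = g * r χ' by rw [← hconj]; group, map_mul,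
      Module.End.mul_apply, (hmem w).1 hw]
  obtain ⟨F', hF', hc⟩ := hLR V inferInstance F hFs
  have hF'0 : F' = ⊥ := by
    by_contra hne
    haveI : Nontrivial F' := Submodule.nontrivial_iff_ne_bot.2 hne
    let τ : HopfPts.Pt k A' →* Module.End k F' :=
      { toFun := fun χ => (ρ (r χ)).restrict fun v hv => dact_mem hF' _ hv
        map_one' := LinearMap.ext fun u => Subtype.ext (by simp)
        map_mul' := fun a b => LinearMap.ext fun u => Subtype.ext (by simp) }
    have hτ : ∀ χ, IsNilpotent (τ χ - 1) := fun χ => by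
      obtain ⟨N, hN⟩ := hnil χ
      refine ⟨N, LinearMap.ext fun u => Subtype.ext ?_⟩
      have key : ∀ (m : ℕ) (u : F'), (((τ χ - 1) ^ m) u : V) = ((ρ (r χ) - 1) ^ m) (u : V) := fun m => by
        induction m with
        | zero => intro u; simp
        | succ m ih =>
          intro u
          rw [pow_succ, pow_succ, Module.End.mul_apply, Module.End.mul_apply, ih]
          rfl
      rw [key, hN]
      rfl
    obtain ⟨w, hw0, hw⟩ := H66.Kolchin.exists_fixed_of_algClosed τ hτ
    refine hw0 (Subtype.ext ?_)
    exact Submodule.disjoint_def.1 hc.disjoint (w : V) ((hmem _).2 fun χ => congrArg Subtype.val (hw χ)) w.2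
  have hFtop : F = ⊤ := by rw [← sup_bot_eq F, ← hF'0]; exact hc.sup_eq_top
  have hr1 : ∀ χ, r χ = 1 := fun χ => hf (LinearMap.ext fun v => by
    rw [map_one, Module.End.one_apply]
    exact (hmem v).1 (hFtop ▸ Submodule.mem_top) χ)
  have hid : toUnit U ≫ η[U] = 𝟙 U := MaxTorusExists.hom_ext_of_points _ _ fun x => by
    obtain ⟨χ, hχ⟩ := ptHom_surjective (x ≫ e.hom)
    rw [Category.comp_id, ← Category.assoc, toUnit_unique (x ≫ toUnit U) (toUnit _), ← Hom.one_def,
      ← cancel_mono i, MonObj.one_comp, show x = ptHom _ χ ≫ e.inv by rw [hχ, Category.assoc, e.hom_inv_id,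
        Category.comp_id], Category.assoc, hr, hr1, map_one]
  haveI : IsIso (toUnit U) := ⟨η[U], hid, toUnit_unique _ _⟩
  haveI : IsIso (toUnit U).left := inferInstanceAs (IsIso ((Over.forget _).map (toUnit U)))
  show IsIso U.hom
  rw [← Over.w (toUnit U)]
  haveI : IsIso (𝟙_ (Over (Spec (CommRingCat.of k)))).hom := inferInstanceAs (IsIso (𝟙 _))
  infer_instance

end AlgClosed

section Field

variable {k : Type u} [Field k] [CharZero k] {A : Type u} [CommRing A] [HopfAlgebra k A]

/-- A reductive group in characteristic zero is linearly reductive. -/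
theorem isLinearlyReductive_of_isReductive (hG : Red.IsReductive (GA k A)) :
    HopfRep.IsLinearlyReductive k A := by
  haveI : Smooth (GA k A).hom := hG.2.1
  haveI : Algebra.FiniteType k A := H1.Hopf.finiteType_of_locallyOfFiniteType (A := A) inferInstance
  obtain ⟨s⟩ : Nonempty ↥(Spec (CommRingCat.of k)) := inferInstance
  have h : Red.IsReductiveOver (AlgebraicClosure ((Spec (CommRingCat.of k)).residueField s))
      (Red.bc (Red.geomPt s) (GA k A)) := hG.2.2 s
  obtain ⟨alg, halg, hσ⟩ := Scheme'.exists_geomPt_eq s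
  rw [hσ] at h
  set K := AlgebraicClosure ((Spec (CommRingCat.of k)).residueField s)
  haveI : CharZero K := charZero_of_injective_algebraMap (algebraMap k K).injective
  haveI : IsMonHom (asIso (bcComp k A K)).hom := isMonHom_bcComp K
  haveI : IsMonHom (asIso (bcComp k A K)).symm.hom := inferInstanceAs (IsMonHom (asIso (bcComp k A K)).inv)
  have h' := isReductiveOver_congr (asIso (bcComp k A K)).symm h
  haveI : IsDomain (K ⊗[k] A) := by
    haveI := h'.2.1
    haveI := h'.2.2.1
    exact Scheme'.isDomain_of_iso (Iso.refl (GA K (K ⊗[k] A)))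
  exact (Groth.Agent.S18813.result k K A).2 (isLinearlyReductive_of_isReductiveOver h')

/-- A connected linearly reductive group in characteristic zero is reductive. -/
theorem isReductive_of_isLinearlyReductive [Algebra.FiniteType k A] [ConnectedSpace (GA k A).left]
    (hLR : HopfRep.IsLinearlyReductive k A) : Red.IsReductive (GA k A) := by
  refine ⟨inferInstance, ?_, fun s => ?_⟩
  · let K := AlgebraicClosure k
    haveI : CharZero K := charZero_of_injective_algebraMap (algebraMap k K).injective
    haveI : Smooth (GA K (K ⊗[k] A)).hom := smooth_of_charZero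
    refine of_bc_hom k K (P := @Smooth) (GA k A) ?_
    rw [← Over.w (inv (bcComp k A K))]
    haveI : IsIso (inv (bcComp k A K)).left :=
      inferInstanceAs (IsIso ((Over.forget _).map (inv (bcComp k A K))))
    infer_instance
  · obtain ⟨alg, halg, hσ⟩ := Scheme'.exists_geomPt_eq s
    set K := AlgebraicClosure ((Spec (CommRingCat.of k)).residueField s)
    haveI : CharZero K := charZero_of_injective_algebraMap (algebraMap k K).injective
    show Red.IsReductiveOver K (Red.bc (Red.geomPt s) (GA k A))
    rw [hσ]
    haveI := Groth.Agent.H1.GrpIrred.connectedSpace_bc (GA k A) K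
    haveI : IsIso (inv (bcComp k A K)).left :=
      inferInstanceAs (IsIso ((Over.forget _).map (inv (bcComp k A K))))
    haveI : ConnectedSpace (GA K (K ⊗[k] A)).left :=
      (inv (bcComp k A K)).left.surjective.connectedSpace (inv (bcComp k A K)).left.continuous
    haveI : Smooth (GA K (K ⊗[k] A)).hom := smooth_of_charZero
    haveI : IsDomain (K ⊗[k] A) := Scheme'.isDomain_of_iso (Iso.refl (GA K (K ⊗[k] A)))
    haveI : IsMonHom (asIso (bcComp k A K)).hom := isMonHom_bcComp K
    exact isReductiveOver_congr (asIso (bcComp k A K))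
      (isReductiveOver_of_isLinearlyReductive ((Groth.Agent.S18813.result k K A).1 hLR))

end Field

end

end Groth.Agent.H60.RedLR
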