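import Groth.Prelude.Def_Hoch
import Groth.Agent.H66.Tame
import Groth.Agent.H66.Passage
import Groth.Agent.Lib.GrpQ.Coinv

/-!
An invariant integral contracts the cochain complex of a comodule in positive degrees.
-/

set_option autoImplicit false

universe u

open TensorProduct

namespace Groth.Agent.H60.RedLR.HochVanish

noncomputable section

variable {k : Type u} [Field k] {A : Type u} [CommRing A] [HopfAlgebra k A]

theorem exists_left_integral (h : H66.Tame.HasIntegral k A) :
    ∃ β : A →ₗ[k] k, β 1 = 1 ∧ ∀ a : A,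
      TensorProduct.rid k A (β.lTensor A (CoalgebraStruct.comul (R := k) a)) = β a • (1 : A) := by
  obtain ⟨α, h1, hα⟩ := h
  refine ⟨α ∘ₗ HopfAlgebraStruct.antipode (R := k) (A := A), by simp [h1], fun a => ?_⟩
  have h := congrArg (fun t => HopfAlgebraStruct.antipode (R := k) (A := A) (TensorProduct.lid k A t))
    (hα (HopfAlgebraStruct.antipode (R := k) a))
  simp only [H66.Passage.comul_antipode, TensorProduct.lid_tmul, map_smul, HopfAlgebra.antipode_one] at h
  rw [LinearMap.comp_apply, h]
  generalize CoalgebraStruct.comul (R := k) a = t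
  induction t using TensorProduct.induction_on with
  | zero => simp
  | add p q hp hq => simp only [map_add, hp, hq]
  | tmul p q =>
    simp only [LinearMap.lTensor_tmul, LinearMap.comp_apply, TensorProduct.rid_tmul, TensorProduct.comm_tmul,
      TensorProduct.map_tmul, LinearMap.rTensor_tmul, TensorProduct.lid_tmul, map_smul]
    congr 1
    exact (Lib.GrpQ.SemiInv.antipode_antipode' (k := k) p).symm

variable (V : Type u) [AddCommGroup V] [Module k V] [HopfRep.Comod k A V]

/-- The contraction. -/
def homotopy (β : A →ₗ[k] k) (n : ℕ) :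
    (Hoch.cochain k A V (n + 1) : Type u) →ₗ[k] (Hoch.cochain k A V n : Type u) :=
  ((-1 : k) ^ (n + 1)) • ((TensorProduct.rid k _).toLinearMap ∘ₗ β.lTensor (Hoch.cochain k A V n : Type u))

theorem homotopy_tmul (β : A →ₗ[k] k) (n : ℕ) (x : (Hoch.cochain k A V n : Type u)) (a : A) :
    homotopy V β n (x ⊗ₜ[k] a) = ((-1 : k) ^ (n + 1) * β a) • x := by
  simp [homotopy, mul_smul]

theorem homotopy_assoc (β : A →ₗ[k] k) (n : ℕ) (x : (Hoch.cochain k A V n : Type u)) (t : A ⊗[k] A) :
    homotopy V β (n + 1) ((TensorProduct.assoc k _ A A).symm (x ⊗ₜ[k] t)) =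
      ((-1 : k) ^ (n + 2)) • (x ⊗ₜ[k] TensorProduct.rid k A (β.lTensor A t)) := by
  induction t using TensorProduct.induction_on with
  | zero => simp
  | add p q hp hq => simp only [TensorProduct.tmul_add, map_add, hp, hq, smul_add]
  | tmul p q =>
    rw [TensorProduct.assoc_symm_tmul, LinearMap.lTensor_tmul, TensorProduct.rid_tmul, TensorProduct.tmul_smul,
      smul_smul]
    exact homotopy_tmul V β (n + 1) (x ⊗ₜ[k] p) q

theorem d_homotopy_add (β : A →ₗ[k] k) (h1 : β 1 = 1)
    (hβ : ∀ a : A, TensorProduct.rid k A (β.lTensor A (CoalgebraStruct.comul (R := k) a)) = β a • (1 : A))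
    (n : ℕ) (z : (Hoch.cochain k A V (n + 1) : Type u)) :
    Hoch.d k A V n (homotopy V β n z) + homotopy V β (n + 1) (Hoch.d k A V (n + 1) z) = z := by
  induction z using TensorProduct.induction_on with
  | zero => simp
  | add p q hp hq =>
    simp only [map_add]
    rw [add_add_add_comm, hp, hq]
  | tmul x a =>
    rw [Hoch.d_succ, LinearMap.add_apply, LinearMap.smul_apply, LinearMap.rTensor_tmul, Hoch.tail_tmul, map_add,
      map_smul (homotopy V β (n + 1)), homotopy_tmul, homotopy_tmul, homotopy_assoc, map_smul, map_sub, map_sub,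
      map_sub, map_sub, hβ]
    simp only [LinearMap.lTensor_tmul, h1, TensorProduct.rid_tmul, one_smul, TensorProduct.tmul_sub, smul_smul]
    rw [← pow_add, show n + 1 + (n + 2) = 2 * (n + 1) + 1 by ring, pow_succ (-1 : k) (2 * (n + 1)), pow_mul,
      neg_one_sq, one_pow, one_mul, pow_succ (-1 : k) (n + 1), smul_sub, smul_sub]
    simp only [mul_neg, mul_one, neg_mul, neg_smul, one_smul]
    abel

theorem subsingleton_H (hG : HopfRep.IsLinearlyReductive k A) (n : ℕ) (hn : 1 ≤ n) :
    Subsingleton (Hoch.H k A V n) := by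
  obtain ⟨β, h1, hβ⟩ := exists_left_integral (H66.Tame.hasIntegral_iff.2 hG)
  obtain ⟨m, rfl⟩ : ∃ m, n = m + 1 := ⟨n - 1, by omega⟩
  refine Submodule.Quotient.subsingleton_iff.2 (eq_top_iff.2 fun z _ => ⟨homotopy V β m z.1, ?_⟩)
  have h := d_homotopy_add V β h1 hβ m z.1
  rwa [LinearMap.mem_ker.1 z.2, map_zero, add_zero] at h

end

end Groth.Agent.H60.RedLR.HochVanish
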