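import Groth.Agent.H60.RedLR.Tangent
import Groth.Agent.H1.Classical.ComodPts
import Groth.Agent.H1.Classical.Unipotent
import Groth.Agent.H66.DualMod
import Groth.Agent.Lib.Hopf.Irred
import Groth.Agent.Lib.Hopf.Points
import Groth.Agent.S4105
import Groth.Agent.S16480

/-!
A reductive group over an algebraically closed field of characteristic zero has a faithful completely reducible
representation, hence is linearly reductive.
-/

set_option autoImplicit false

universe u v w

open TensorProduct CategoryTheory MonoidalCategory CartesianMonoidalCategory MonObj GrpObj AlgebraicGeometry CoordGrp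
  Groth.Agent.Lib.Comod.Basic Groth.Agent.H1.Classical Groth.Agent.H1.Classical.Scheme'
  Groth.Agent.Lib.RedPts.Points WithConv

attribute [local instance] baseAlgebra

namespace Groth.Agent.H60.RedLR

noncomputable section

section Comod

variable {k : Type u} [Field k] {A : Type u} [CommRing A] [HopfAlgebra k A]
variable {V : Type w} [AddCommGroup V] [Module k V] [HopfRep.Comod k A V]

theorem apply_dact (ℓ : V →ₗ[k] k) (φ : A →ₗ[k] k) (v : V) :
    ℓ (dact V φ v) = φ (H66.Coeff.coeff (C := A) ℓ v) := by
  rw [dact_apply, H66.Coeff.coeff_apply]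
  induction HopfRep.Comod.coact (k := k) (A := A) v using TensorProduct.induction_on with
  | zero => simp
  | tmul v a => simp [mul_comm]
  | add p q hp hq => simp only [map_add, hp, hq]

theorem assoc_rTensor_rTensor {U : Type*} [AddCommGroup U] [Module k U] (g : V →ₗ[k] U) (y : (V ⊗[k] A) ⊗[k] A) :
    TensorProduct.assoc k U A A ((g.rTensor A).rTensor A y) = g.rTensor (A ⊗[k] A) (TensorProduct.assoc k V A A y) := by
  induction y using TensorProduct.induction_on with
  | zero => simp
  | add p q hp hq => simp only [map_add, hp, hq]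
  | tmul x c =>
    induction x using TensorProduct.induction_on with
    | zero => simp
    | add p q hp hq => simp only [TensorProduct.add_tmul, map_add, hp, hq]
    | tmul _ _ => simp

theorem coassoc_of_hom {U : Type*} [AddCommGroup U] [Module k U] (δ : U →ₗ[k] U ⊗[k] A) (g : V →ₗ[k] U)
    (hg : δ ∘ₗ g = g.rTensor A ∘ₗ HopfRep.Comod.coact (k := k) (A := A)) (v : V) :
    TensorProduct.assoc k U A A (δ.rTensor A (δ (g v))) =
      (CoalgebraStruct.comul (R := k) (A := A)).lTensor U (δ (g v)) := by
  rw [show δ (g v) = g.rTensor A (HopfRep.Comod.coact (k := k) (A := A) v) from LinearMap.congr_fun hg v,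
    ← LinearMap.rTensor_comp_apply, hg, LinearMap.rTensor_comp_apply, assoc_rTensor_rTensor,
    H66.Base.coassoc_apply, ← LinearMap.comp_apply, ← LinearMap.comp_apply (LinearMap.lTensor U _),
    LinearMap.rTensor_comp_lTensor, LinearMap.lTensor_comp_rTensor]

theorem counit_of_hom {U : Type*} [AddCommGroup U] [Module k U] (δ : U →ₗ[k] U ⊗[k] A) (g : V →ₗ[k] U)
    (hg : δ ∘ₗ g = g.rTensor A ∘ₗ HopfRep.Comod.coact (k := k) (A := A)) (v : V) :
    (CoalgebraStruct.counit (R := k) (A := A)).lTensor U (δ (g v)) = g v ⊗ₜ[k] (1 : k) := by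
  have h := LinearMap.congr_fun (HopfRep.Comod.counit_comp (k := k) (A := A) (V := V)) v
  simp only [LinearMap.comp_apply, LinearMap.flip_apply, TensorProduct.mk_apply] at h
  rw [show δ (g v) = g.rTensor A (HopfRep.Comod.coact (k := k) (A := A) v) from LinearMap.congr_fun hg v,
    ← LinearMap.comp_apply, LinearMap.lTensor_comp_rTensor, ← LinearMap.rTensor_comp_lTensor, LinearMap.comp_apply, h,
    LinearMap.rTensor_tmul]

variable {W : Type w} [AddCommGroup W] [Module k W] [HopfRep.Comod k A W]

variable (A V W) in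
/-- The coaction of a direct sum. -/
def prodCoact : V × W →ₗ[k] (V × W) ⊗[k] A :=
  LinearMap.coprod ((LinearMap.inl k V W).rTensor A ∘ₗ HopfRep.Comod.coact (k := k) (A := A))
    ((LinearMap.inr k V W).rTensor A ∘ₗ HopfRep.Comod.coact (k := k) (A := A))

variable (A V W) in
/-- The direct sum of two representations. -/
@[reducible] def prodComod : HopfRep.Comod k A (V × W) where
  coact := prodCoact A V W
  coassoc := by
    refine LinearMap.prod_ext (LinearMap.ext fun v => ?_) (LinearMap.ext fun v => ?_)
    · exact coassoc_of_hom (prodCoact A V W) (LinearMap.inl k V W) (LinearMap.coprod_inl _ _) v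
    · exact coassoc_of_hom (prodCoact A V W) (LinearMap.inr k V W) (LinearMap.coprod_inr _ _) v
  counit_comp := by
    refine LinearMap.prod_ext (LinearMap.ext fun v => ?_) (LinearMap.ext fun v => ?_)
    · exact counit_of_hom (prodCoact A V W) (LinearMap.inl k V W) (LinearMap.coprod_inl _ _) v
    · exact counit_of_hom (prodCoact A V W) (LinearMap.inr k V W) (LinearMap.coprod_inr _ _) v

theorem isComodHom_inl : letI := prodComod (k := k) A V W; Hoch.IsComodHom A (LinearMap.inl k V W) :=
  LinearMap.coprod_inl _ _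

theorem isComodHom_inr : letI := prodComod (k := k) A V W; Hoch.IsComodHom A (LinearMap.inr k V W) :=
  LinearMap.coprod_inr _ _

open Groth.Agent.H66.DualMod in
theorem isSemisimpleComod_prod (hV : HopfRep.IsSemisimpleComod k A V) (hW : HopfRep.IsSemisimpleComod k A W) :
    letI := prodComod (k := k) A V W; HopfRep.IsSemisimpleComod k A (V × W) := by
  letI := prodComod (k := k) A V W
  letI := module k A V
  letI := module k A W
  letI mVW := module k A (V × W)
  haveI := isSemisimpleComod_iff.1 hV
  haveI := isSemisimpleComod_iff.1 hW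
  refine isSemisimpleComod_iff.2 ?_
  let f := homOf (LinearMap.inl k V W) (isComodHom_inl (A := A))
  let g := homOf (LinearMap.inr k V W) (isComodHom_inr (A := A))
  refine isSemisimpleModule_of_isSemisimpleModule_submodule'
    (p := fun b : Bool => cond b (LinearMap.range f) (LinearMap.range g)) (fun b => ?_) ?_
  · cases b
    · exact IsSemisimpleModule.range g
    · exact IsSemisimpleModule.range f
  · refine eq_top_iff.2 fun x _ => ?_
    rw [show x = f x.1 + g x.2 from (by simp : x = LinearMap.inl k V W x.1 + LinearMap.inr k V W x.2)]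
    exact add_mem ((le_iSup (fun b : Bool => cond b (LinearMap.range f) (LinearMap.range g)) true) ⟨x.1, rfl⟩)
      ((le_iSup (fun b : Bool => cond b (LinearMap.range f) (LinearMap.range g)) false) ⟨x.2, rfl⟩)

theorem map_rep {f : V →ₗ[k] W} (hf : Hoch.IsComodHom A f) (g : HopfPts.Pt k A) (v : V) :
    f (ComodPts.rep V g v) = ComodPts.rep W g (f v) :=
  map_dact hf _ _

end Comod

section Filt

variable {k : Type u} [Field k] {A : Type u} [CommRing A] [HopfAlgebra k A]

/-- The elements of a subgroup acting trivially on a semisimplification act unipotently and solvably. -/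
theorem exists_semisimplification :
    ∀ (n : ℕ) (V : Type u) [AddCommGroup V] [Module k V] [FiniteDimensional k V] [HopfRep.Comod k A V],
      Module.finrank k V = n →
      ∃ (W : Type u) (_ : AddCommGroup W) (_ : Module k W) (_ : FiniteDimensional k W) (_ : HopfRep.Comod k A W),
        HopfRep.IsSemisimpleComod k A W ∧
        ∀ H : Subgroup (HopfPts.Pt k A), (∀ g ∈ H, ComodPts.rep W g = 1) →
          (∀ g ∈ H, IsNilpotent (ComodPts.rep V g - 1)) ∧
          ∃ m, ∀ g ∈ (derivedSeries H m).map H.subtype, ComodPts.rep V g = 1 := by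
  intro n
  induction n using Nat.strong_induction_on with
  | _ n ih =>
    intro V _ _ _ _ hn
    rcases subsingleton_or_nontrivial V with hV | hV
    · refine ⟨V, inferInstance, inferInstance, inferInstance, inferInstance,
        fun U _ => ⟨⊤, isSubcomod_top, ?_⟩, fun H hH => ⟨fun g hg => ⟨1, by rw [hH g hg]; simp⟩, 0, fun g hg => ?_⟩⟩
      · rw [Subsingleton.elim U ⊥]; exact isCompl_bot_top
      · exact Subsingleton.elim _ _
    obtain ⟨S, ⟨hS, hS0⟩, hmin⟩ := WellFounded.has_min
      (wellFounded_lt (α := Submodule k V)) {S | HopfRep.IsSubcomod (k := k) (A := A) S ∧ S ≠ ⊥}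
      ⟨⊤, isSubcomod_top, top_ne_bot⟩
    letI cS := subComod S hS
    have hSss : HopfRep.IsSemisimpleComod k A ↥S := fun U hU => by
      have hU' : HopfRep.IsSubcomod (k := k) (A := A) (U.map S.subtype) := isSubcomod_map (isComodHom_subtype hS) hU
      by_cases h0 : U = ⊥
      · exact ⟨⊤, isSubcomod_top, h0 ▸ isCompl_bot_top⟩
      · have hle : U.map S.subtype ≤ S := fun x hx => by
          obtain ⟨y, -, rfl⟩ := hx; exact y.2
        have hne : U.map S.subtype ≠ ⊥ := fun h => h0 (Submodule.map_injective_of_injective S.injective_subtype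
          (h.trans (Submodule.map_bot _).symm))
        have heq : U.map S.subtype = S := (hle.lt_or_eq.resolve_left (hmin _ ⟨hU', hne⟩))
        have : U = ⊤ := Submodule.map_injective_of_injective S.injective_subtype
          (heq.trans (Submodule.map_subtype_top S).symm)
        exact ⟨⊥, isSubcomod_bot, this ▸ isCompl_top_bot⟩
    letI cQ := quotComod S hS
    have hlt : Module.finrank k (V ⧸ S) < n := by
      have h1 := Submodule.finrank_quotient_add_finrank S
      have h2 : Module.finrank k ↥S ≠ 0 := fun h => hS0 (Submodule.finrank_eq_zero.1 h)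
      omega
    obtain ⟨W', _, _, _, _, hW', hH'⟩ := ih _ hlt (V ⧸ S) rfl
    refine ⟨↥S × W', inferInstance, inferInstance, inferInstance, prodComod (k := k) A ↥S W', isSemisimpleComod_prod hSss hW',
      fun H hH => ?_⟩
    letI := prodComod (k := k) A ↥S W'
    have hHW : ∀ g ∈ H, ComodPts.rep W' g = 1 := fun g hg => LinearMap.ext fun x => by
      have h := map_rep (isComodHom_inr (A := A) (V := ↥S) (W := W')) g x
      rw [hH g hg] at h
      exact congrArg Prod.snd h
    have hHS : ∀ g ∈ H, ∀ s ∈ S, ComodPts.rep V g s = s := fun g hg s hs => by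
      have h := map_rep (isComodHom_inl (A := A) (V := ↥S) (W := W')) g ⟨s, hs⟩
      rw [hH g hg] at h
      have h' : ComodPts.rep (↥S) g ⟨s, hs⟩ = ⟨s, hs⟩ := congrArg Prod.fst h
      have h2 := map_rep (isComodHom_subtype hS) g ⟨s, hs⟩
      rw [h'] at h2
      exact h2.symm
    obtain ⟨hnil, m, hm⟩ := hH' H hHW
    refine ⟨fun g hg => ?_, m + 1, fun g hg => ?_⟩
    · obtain ⟨N, hN⟩ := hnil g hg
      refine ⟨N + 1, LinearMap.ext fun v => ?_⟩
      rw [pow_succ', Module.End.mul_apply]
      have hmem : ((ComodPts.rep V g - 1) ^ N) v ∈ S := by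
        have key : ∀ (j : ℕ) (v : V), S.mkQ (((ComodPts.rep V g - 1) ^ j) v) =
            ((ComodPts.rep (V ⧸ S) g - 1) ^ j) (S.mkQ v) := fun j => by
          induction j with
          | zero => intro v; simp
          | succ j hj =>
            intro v
            rw [pow_succ, pow_succ, Module.End.mul_apply, Module.End.mul_apply, hj, LinearMap.sub_apply,
              LinearMap.sub_apply, map_sub, Module.End.one_apply, Module.End.one_apply, map_rep (isComodHom_mkQ hS)]
        have := key N v
        rwa [hN, LinearMap.zero_apply, Submodule.mkQ_apply, Submodule.Quotient.mk_eq_zero] at this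
      rw [LinearMap.sub_apply, Module.End.one_apply, hHS g hg _ hmem, sub_self, LinearMap.zero_apply]
    · rw [derivedSeries_succ, Subgroup.map_commutator] at hg
      have hle : ⁅(derivedSeries H m).map H.subtype, (derivedSeries H m).map H.subtype⁆ ≤
          (ComodPts.rep (k := k) (A := A) V).ker := Subgroup.commutator_le.2 fun a ha b hb => ?_
      · exact hle hg
      have hsub : ∀ c ∈ (derivedSeries H m).map H.subtype, ∀ v, ComodPts.rep V c v - v ∈ S := fun c hc v => by
        rw [← Submodule.Quotient.eq, ← Submodule.mkQ_apply, ← Submodule.mkQ_apply, map_rep (isComodHom_mkQ hS),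
          hm c hc, Module.End.one_apply]
      have hin : ∀ c ∈ (derivedSeries H m).map H.subtype, c ∈ H := fun c hc => by
        obtain ⟨y, -, rfl⟩ := hc; exact y.2
      have hcomm : ComodPts.rep V a * ComodPts.rep V b = ComodPts.rep V b * ComodPts.rep V a :=
        LinearMap.ext fun v => by
          have h1 := hHS a (hin a ha) _ (hsub b hb v)
          have h2 := hHS b (hin b hb) _ (hsub a ha v)
          rw [map_sub] at h1 h2
          rw [Module.End.mul_apply, Module.End.mul_apply, sub_eq_iff_eq_add.1 h1, sub_eq_iff_eq_add.1 h2]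
          abel
      rw [MonoidHom.mem_ker, commutatorElement_def, map_mul, map_mul, map_mul, hcomm, mul_assoc (ComodPts.rep V b),
        ← map_mul, mul_inv_cancel, map_one, _root_.mul_one, ← map_mul, mul_inv_cancel, map_one]

end Filt

section Main

variable {k : Type u} [Field k] [IsAlgClosed k] [CharZero k] {A : Type u} [CommRing A] [HopfAlgebra k A]
  [Algebra.FiniteType k A] [IsDomain A]

/-- In a reductive group, a normal closed solvable group of unipotent points is trivial. -/
theorem eq_bot_of_unipotent (hG : Red.IsReductiveOver k (GA k A)) {V : Type u} [AddCommGroup V] [Module k V]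
    [FiniteDimensional k V] (ρ : Representation k (HopfPts.Pt k A) V) (hf : Function.Injective ρ)
    (C : Subgroup (HopfPts.Pt k A)) [Group.IsSolvable C] (hcl : (HopfPts.D k A).IsCl C)
    (hirr : (HopfPts.D k A).SIrr C) (hnor : C.Normal) (hnil : ∀ g ∈ C, IsNilpotent (ρ g - 1)) : C = ⊥ := by
  obtain ⟨Z, _, c, hc1, hc2, hc3, hc4, -, hfac, hpt⟩ := exists_subgroup C hcl hirr
  haveI := hc1
  haveI := hc2
  haveI := hc3
  haveI := hc4
  haveI : Mono c := Over.mono_of_mono_left c
  haveI : IsAffine Z.left := isAffine_of_isAffineHom c.left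
  have hno : Unipotent.NoTorsion Z := fun x m hm hx => by
    obtain ⟨s, hsC, hxs⟩ := hpt x
    have hsm : s ^ m = 1 :=
      ptHom_injective (by rw [map_pow, ← hxs, ← Unipotent.pow_comp, hx, MonObj.one_comp, map_one])
    rw [← cancel_mono c, MonObj.one_comp, hxs, Torus.Cartan.eq_one_of_nilp hf hm hsm (hnil s hsC), map_one]
  have hnorm : AlgGrp.IsNormalHom c := by
    haveI : Smooth (GA k A).hom := hG.2.1
    haveI : IsAffine (GA k A ⊗ Z).left := inferInstanceAs (IsAffine (Limits.pullback (GA k A).hom Z.hom))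
    haveI : Smooth (GA k A ⊗ Z).hom :=
      inferInstanceAs (Smooth (Limits.pullback.fst (GA k A).hom Z.hom ≫ (GA k A).hom))
    let Φ : GA k A ⊗ Z ⟶ GA k A := fst (GA k A) Z * (snd (GA k A) Z ≫ c) * (fst (GA k A) Z)⁻¹
    obtain ⟨Φ', hΦ'⟩ := hfac (GA k A ⊗ Z) Φ (algHomOf_eq_zero (T := (C : Set (HopfPts.Pt k A))) _ fun x => by
      obtain ⟨g, hg⟩ := ptHom_surjective (x ≫ fst (GA k A) Z)
      obtain ⟨s, hsC, hxs⟩ := hpt (x ≫ snd (GA k A) Z)
      refine ⟨g * s * g⁻¹, hnor.conj_mem s hsC g, ?_⟩
      simp only [Φ, MonObj.comp_mul, GrpObj.comp_inv]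
      rw [map_mul, map_mul, map_inv, hg, ← hxs, Category.assoc])
    intro T g m
    refine ⟨lift g m ≫ Φ', ?_⟩
    rw [Category.assoc, hΦ']
    simp [Φ, MonObj.comp_mul, GrpObj.comp_inv]
  haveI : IsIso Z.hom := hG.2.2.2 Z c hc2 hc3 hc4 hnorm (Unipotent.hasNoSubtorus_of_noTorsion hno)
  refine (Subgroup.eq_bot_iff_forall _).mpr fun s hsC => ?_
  obtain ⟨x, hx⟩ := hfac (𝟙_ (Over (Spec (CommRingCat.of k)))) (ptHom _ s)
    fun a ha => by rw [algHomOf_ptHom, ha s hsC, map_zero]
  have h1 : x = 1 := Over.OverMorphism.ext (by rw [← cancel_mono Z.hom, Over.w, Over.w])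
  refine ptHom_injective ?_
  rw [map_one, ← hx, h1, MonObj.one_comp]

/-- In a reductive group the points acting trivially on a semisimplification of a faithful representation are
trivial. -/
theorem ker_eq_bot (hG : Red.IsReductiveOver k (GA k A)) {V : Type u} [AddCommGroup V] [Module k V]
    [FiniteDimensional k V] [HopfRep.Comod k A V]
    (hf : Function.Injective (ComodPts.rep (k := k) (A := A) V)) {W : Type u} [AddCommGroup W] [Module k W]
    [HopfRep.Comod k A W]
    (hW : ∀ H : Subgroup (HopfPts.Pt k A), (∀ g ∈ H, ComodPts.rep W g = 1) →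
      (∀ g ∈ H, IsNilpotent (ComodPts.rep V g - 1)) ∧
      ∃ m, ∀ g ∈ (derivedSeries H m).map H.subtype, ComodPts.rep V g = 1) :
    (ComodPts.rep (k := k) (A := A) W).ker = ⊥ := by
  classical
  set D := HopfPts.D k A
  set K := (ComodPts.rep (k := k) (A := A) W).ker
  have hKcl : D.IsCl K := by
    refine D.isCl_of_forall {f | ∃ (w : W) (l : Module.Dual k W), f = fun g => l (ComodPts.rep W g w) - l w} ?_
      fun g => ?_
    · rintro _ ⟨w, l, rfl⟩
      exact D.R.sub_mem (ComodPts.endFn W w l) (D.R.algebraMap_mem (l w))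
    · constructor
      · rintro hg _ ⟨w, l, rfl⟩
        show l (ComodPts.rep W g w) - l w = 0
        rw [show ComodPts.rep W g = 1 from hg, Module.End.one_apply, sub_self]
      · intro hg
        refine LinearMap.ext fun w => ?_
        rw [← sub_eq_zero]
        refine (Module.forall_dual_apply_eq_zero_iff k _).1 fun l => ?_
        rw [map_sub]
        exact hg _ ⟨w, l, rfl⟩
  set D' := D.restrict K hKcl
  obtain ⟨C₀, hC₀cl, hC₀irr, hC₀max⟩ := D'.exists_component
  let C := C₀.map K.subtype
  have hCset : (C : Set (HopfPts.Pt k A)) = Subtype.val '' (C₀ : Set K) := by rw [Subgroup.coe_map]; rfl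
  have hCcl : D.IsCl C := hCset ▸ D.isCl_image hC₀cl
  have hCirr : D.SIrr C := hCset ▸ D.sirr_restrict.1 hC₀irr
  have hCK : C ≤ K := Subgroup.map_subtype_le _
  have hCnor : C.Normal := ⟨fun s hs a => by
    have hK : ∀ x ∈ C, a * x * a⁻¹ ∈ K := fun x hx => (MonoidHom.normal_ker _).conj_mem x (hCK hx) a
    have himg : Subtype.val '' (Subtype.val ⁻¹' ((fun x => a * x * a⁻¹) '' (C : Set (HopfPts.Pt k A))) : Set K) =
        (fun x => a * x * a⁻¹) '' (C : Set (HopfPts.Pt k A)) := by
      rw [Set.image_preimage_eq_iff]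
      rintro _ ⟨x, hx, rfl⟩
      exact ⟨⟨_, hK x hx⟩, rfl⟩
    have hsub := hC₀max (Subtype.val ⁻¹' ((fun x => a * x * a⁻¹) '' (C : Set (HopfPts.Pt k A))))
      (D.sirr_restrict.2 (by rw [himg]; exact hCirr.image D _ (D.cTrans a) (D.cTrans_apply a))) ⟨1, C.one_mem, by simp⟩
    exact ⟨⟨_, hK s hs⟩, hsub ⟨s, hs, rfl⟩, rfl⟩⟩
  obtain ⟨hnil, m, hm⟩ := hW C fun g hg => hCK hg
  haveI : Group.IsSolvable C := (Group.isSolvable_def _).mpr ⟨m, by
    refine (Subgroup.eq_bot_iff_forall _).mpr fun g hg => Subtype.ext (hf ?_)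
    exact (hm _ ⟨g, hg, rfl⟩).trans (map_one _).symm⟩
  have hC := eq_bot_of_unipotent hG _ hf C hCcl hCirr hCnor hnil
  have hC₀ : C₀ = ⊥ := (Subgroup.map_eq_bot_iff_of_injective _ K.subtype_injective).1 hC
  -- the kernel is finite
  haveI := D'.isNoetherianRing
  have hfin := minimalPrimes.finite_of_isNoetherianRing D'.R
  have hsub : ∀ p ∈ minimalPrimes D'.R, (D'.zero p).Subsingleton := by
    intro p hp x hx y hy
    haveI : p.IsPrime := hp.1.1
    have hirr : D'.SIrr (D'.zero p) := fun f f' h => by
      rw [D'.vI_zero p] at h ⊢; exact Ideal.IsPrime.mem_or_mem ‹_› h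
    have hmem : x⁻¹ * y ∈ C₀ := hC₀max _ (hirr.image D' (x⁻¹ * ·) (D'.lTrans x⁻¹) fun _ _ => rfl)
      ⟨x, hx, inv_mul_cancel x⟩ ⟨y, hy, rfl⟩
    rw [hC₀, Subgroup.mem_bot] at hmem
    exact inv_mul_eq_one.1 hmem
  haveI : Finite K := Set.finite_univ_iff.1 (((hfin.biUnion fun p hp => (hsub p hp).finite)).subset fun g _ => by
    let χ : D'.R →+* k := (Pi.evalRingHom (fun _ : K => k) g).comp D'.R.val.toRingHom
    have : (RingHom.ker χ).IsPrime := RingHom.ker_isPrime χ
    obtain ⟨p, hp, hle⟩ := Ideal.exists_minimalPrimes_le (J := RingHom.ker χ) (bot_le : ⊥ ≤ _)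
    exact Set.mem_biUnion hp fun f hf => hle hf)
  refine (Subgroup.eq_bot_iff_forall _).mpr fun g hg => ?_
  refine Torus.Cartan.eq_one_of_nilp hf (Nat.cast_ne_zero.2 (orderOf_pos (⟨g, hg⟩ : K)).ne') ?_
    ((hW K fun x hx => hx).1 g hg)
  simpa using congrArg Subtype.val (pow_orderOf_eq_one (⟨g, hg⟩ : K))

/-- A reductive group over an algebraically closed field of characteristic zero is linearly reductive. -/
theorem isLinearlyReductive_of_isReductiveOver (hG : Red.IsReductiveOver k (GA k A)) :
    HopfRep.IsLinearlyReductive k A := by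
  classical
  obtain ⟨N, π, hπ⟩ := Groth.Agent.S16480.result k A
  letI := eComod π
  have hfaith : Function.Injective (ComodPts.rep (k := k) (A := A) (Fin N → k)) := fun g h hgh => by
    have hco : ∀ (χ : HopfPts.Pt k A) (i j : Fin N),
        χ.ofConv (π (GLn.X i j)) = ComodPts.rep (Fin N → k) χ (Pi.single j 1) i := fun χ i j => by
      have h := apply_dact (A := A) (LinearMap.proj (R := k) i) χ.ofConv.toLinearMap (Pi.single j 1 : Fin N → k)
      rw [coeff_proj] at h
      simpa [Pi.single_apply, eMat, ComodPts.rep_apply, ComodPts.act_eq] using h.symm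
    refine ofConv_injective (AlgHom.ext fun a => ?_)
    obtain ⟨f, rfl⟩ := hπ a
    exact AlgHom.congr_fun (HM.algHom_ext_X (f := g.ofConv.comp (π : GLn N k →ₐ[k] A))
      (g := h.ofConv.comp (π : GLn N k →ₐ[k] A)) fun i j => by
        simp only [AlgHom.comp_apply]
        exact (hco g i j).trans ((congrArg (fun T : Module.End k (Fin N → k) => T (Pi.single j 1) i) hgh).trans (hco h i j).symm)) f
  obtain ⟨W, _, _, _, _, hWss, hW⟩ := exists_semisimplification (k := k) (A := A) _ (Fin N → k) rfl
  have hker := ker_eq_bot hG hfaith hW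
  let b := Module.finBasis k W
  set M := Module.finrank k W
  letI cF := equivComod (A := A) b.equivFun
  obtain ⟨a, ha, hδ⟩ := Lib.Hopf.Coeff.exists_coeffs_free
    (HopfRep.Comod.coact (k := k) (A := A) (V := Fin M → k))
    (fun x => H66.Base.coassoc_apply x) (fun x => Lib.Hopf.ComodRing.counit_slice_coact x)
  let e := HM.homOf (k := k) a ha.1 ha.2
  have heX : ∀ i j, e (GLn.X i j) = a i j := HM.homOf_X a _ _
  let B := Lib.Hopf.Coeff.coeffAlg k a
  have hB := Lib.Hopf.Coeff.isHopfSubalgebra_coeffAlg ha
  haveI := Lib.Hopf.FaithfullyFlat.faithfullyFlat hB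
  -- only the neutral point fixes the semisimplification
  have hpts : ∀ χ : A →ₐ[k] k, (∀ i j, χ (a i j) = if i = j then 1 else 0) → χ = Bialgebra.counitAlgHom k A := by
    intro χ hχ
    have h1 : ComodPts.rep (Fin M → k) (toConv χ) = 1 := by
      refine (Pi.basisFun k (Fin M)).ext fun j => ?_
      rw [Pi.basisFun_apply, ComodPts.rep_apply, ComodPts.act_eq, dact_apply, hδ, map_sum]
      funext i
      simp [hχ, Pi.single_apply, ite_apply]
    have h2 : toConv χ ∈ (ComodPts.rep (k := k) (A := A) W).ker := LinearMap.ext fun w => by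
      apply b.equivFun.injective
      exact (map_rep (isComodHom_equiv b.equivFun) (toConv χ) w).trans (LinearMap.congr_fun h1 _)
    rw [hker, Subgroup.mem_bot] at h2
    exact (congrArg ofConv h2).trans (AlgHom.ext fun x => by
      show (1 : HopfPts.Pt k A) x = _
      simp)
  set J := SGA3.augIdealSpan k A B
  haveI : J.IsHopfIdeal k := Lib.Hopf.Irred.isHopfIdeal_augIdealSpan hB
  haveI : Algebra.FiniteType k (A ⧸ J) :=
    Algebra.FiniteType.of_surjective (Ideal.Quotient.mkₐ k J) Ideal.Quotient.mk_surjective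
  haveI : _root_.IsReduced (A ⧸ J) := Lib.Comod.Cartier.isReduced (k := k) (H := A ⧸ J)
  have hJ : ∀ x : A, x - algebraMap k A (Bialgebra.counitAlgHom k A x) ∈ J := fun x => by
    refine Ideal.Quotient.eq_zero_iff_mem.1 (Groth.Agent.Lib.Hopf.Points.eq_zero_of_forall_point_eq_zero (k := k) fun χ => ?_)
    have hχ := hpts (χ.comp (Ideal.Quotient.mkₐ k J)) fun i j => by
      have hm : a i j - algebraMap k A (CoalgebraStruct.counit (R := k) (a i j)) ∈ J :=
        Ideal.subset_span ⟨B.sub_mem (Lib.Hopf.Coeff.entry_mem_coeffAlg i j) (B.algebraMap_mem _), by simp⟩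
      have h0 : χ (Ideal.Quotient.mk J (a i j - algebraMap k A (CoalgebraStruct.counit (R := k) (a i j)))) = 0 := by
        rw [Ideal.Quotient.eq_zero_iff_mem.2 hm, map_zero]
      rw [← Ideal.Quotient.mkₐ_eq_mk k, ← AlgHom.comp_apply, map_sub, AlgHom.commutes, sub_eq_zero, ha.2] at h0
      simpa using h0
    rw [← Ideal.Quotient.mkₐ_eq_mk k, ← AlgHom.comp_apply, hχ]
    simp
  have hBtop : ∀ x : A, x ∈ B := fun x => by
    refine Groth.Agent.S4105.mem_of_comul_sub_mem hB ?_
    let f : A →ₗ[k] J.restrictScalars k :=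
      (LinearMap.id - Algebra.linearMap k A ∘ₗ (Bialgebra.counitAlgHom k A).toLinearMap).codRestrict _ hJ
    refine ⟨f.lTensor A (CoalgebraStruct.comul (R := k) x - x ⊗ₜ[k] (1 : A)), ?_⟩
    rw [← LinearMap.lTensor_comp_apply, LinearMap.subtype_comp_codRestrict, LinearMap.lTensor_sub,
      LinearMap.sub_apply, LinearMap.lTensor_id, LinearMap.id_apply, sub_eq_self, LinearMap.lTensor_comp_apply,
      map_sub, LinearMap.lTensor_tmul]
    simp [Bialgebra.toLinearMap_counitAlgHom, Coalgebra.lTensor_counit_comul]
  have hsurj : Function.Surjective e := fun x => by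
    have hle : B ≤ (e : GLn M k →ₐ[k] A).range := by
      refine Algebra.adjoin_le ?_
      rintro y (⟨p, rfl⟩ | hy)
      · exact ⟨GLn.X p.1 p.2, heX _ _⟩
      · rw [Set.mem_singleton_iff] at hy
        subst hy
        refine ⟨GLn.Dinv, ?_⟩
        have h1 : e GLn.det = a.det := by
          rw [show e GLn.det = (HM.mat (e : GLn M k →ₐ[k] A)).det from HM.map_det (e : GLn M k →ₐ[k] A),
            show HM.mat (e : GLn M k →ₐ[k] A) = a from Matrix.ext heX]
        refine left_inv_eq_right_inv (a := a.det) ?_ ((mul_comm _ _).trans (Lib.Hopf.Coeff.detInv_mul ha))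
        rw [← h1]
        show e GLn.Dinv * e GLn.det = 1
        rw [← map_mul, GLn.Dinv_mul_det, map_one]
    exact hle (hBtop x)
  refine isLinearlyReductive e hsurj ?_
  have hcF : cF = eComod e := by
    have hco : cF.coact = (eComod e).coact := by
      refine (Pi.basisFun k (Fin M)).ext fun j => ?_
      rw [Pi.basisFun_apply]
      show _ = H66.MatComod.coactFun (eMat e) (Pi.single j 1)
      rw [H66.MatComod.coactFun_single]
      simp only [eMat, heX]
      exact hδ j
    revert hco
    cases cF
    cases eComod e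
    intro hco
    congr
  rw [← hcF]
  open Groth.Agent.H66.DualMod in
  letI := module k A W
  letI := module k A (Fin M → k)
  haveI := isSemisimpleComod_iff.1 hWss
  exact isSemisimpleComod_iff.2 (IsSemisimpleModule.of_surjective
    (homOf b.equivFun.toLinearMap (isComodHom_equiv b.equivFun)) b.equivFun.surjective)

end Main

end

end Groth.Agent.H60.RedLR
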