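import Groth.Agent.H60.RedLR.Weyl
import Groth.Agent.H60.HM.Point
import Groth.Agent.Lib.Comod.Cartier
import Groth.Agent.H66.MatComod

/-!
The Lie algebra of a connected group in characteristic zero detects subrepresentations; a group with a faithful
completely reducible representation is linearly reductive.
-/

set_option autoImplicit false

universe u w

open TensorProduct CoordGrp Groth.Agent.Lib.Comod Groth.Agent.Lib.Comod.Basic Groth.Agent.Lib.Comod.Cartier

attribute [local instance] LieRing.ofAssociativeRing LieRingModule.ofAssociativeModule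
attribute [local instance] LieModule.ofAssociativeModule

namespace Groth.Agent.H60.RedLR

noncomputable section

variable {k : Type u} [Field k] {A : Type u} [CommRing A] [HopfAlgebra k A]

variable (k A) in
/-- Tangent vectors at the neutral point. -/
def tanSpace : Submodule k (A →ₗ[k] k) where
  carrier := {τ | IsTangent τ}
  add_mem' := fun {σ τ} hσ hτ a b => by
    simp only [LinearMap.add_apply, hσ a b, hτ a b]; ring
  zero_mem' := fun a b => by simp
  smul_mem' := fun c τ hτ a b => by
    simp only [LinearMap.smul_apply, smul_eq_mul, hτ a b]; ring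

/-- An ideal at the neutral point stable under invariant derivations vanishes. -/
theorem eq_bot_of_stable [CharZero k] [Algebra.FiniteType k A] [IsDomain A] (J : Ideal A) (hJ : J ≤ aug (k := k))
    (hst : ∀ τ : A →ₗ[k] k, IsTangent τ → ∀ a ∈ J, inv τ a ∈ J) : J = ⊥ := by
  classical
  haveI : IsNoetherianRing A := Algebra.FiniteType.isNoetherianRing k A
  let bas := Module.Basis.ofVectorSpace k (A ⧸ low (k := k) (A := A))
  have hpow : ∀ m : ℕ, ∀ a ∈ J, a ∈ aug (k := k) ^ (m + 1) := by
    intro m
    induction m with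
    | zero => intro a ha; rw [zero_add, pow_one]; exact hJ ha
    | succ m ih =>
      intro a ha
      obtain ⟨f, hf, haf⟩ := aug_pow_le bas (m + 1) a (ih a ha)
      suffices hf0 : f = 0 by simpa [hf0] using haf
      have hd : ∀ i, MvPolynomial.pderiv i f = 0 := fun i => by
        obtain ⟨h1, h2⟩ := pderiv_mem bas i m f hf
        refine eq_zero_of_ev_mem bas m _ h1 ?_
        have h3 := ih _ (hst _ (isTangent_tau bas i) a ha)
        have h4 := inv_pow_mem (tau bas i) (isTangent_tau bas i) (m + 1) _ haf
        rw [map_sub] at h4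
        have h5 := sub_mem (sub_mem h3 h4) h2
        rwa [sub_sub_cancel, sub_sub_cancel] at h5
      ext d
      rw [MvPolynomial.coeff_zero]
      by_cases h0 : d = 0
      · subst h0
        exact constantCoeff_linForms m f hf
      obtain ⟨i, hi⟩ : ∃ i, d i ≠ 0 := by
        by_contra hcon
        push Not at hcon
        exact h0 (Finsupp.ext hcon)
      have h := congrArg (MvPolynomial.coeff (d - Finsupp.single i 1)) (hd i)
      rw [MvPolynomial.coeff_pderiv, MvPolynomial.coeff_zero] at h
      have hadd : d - Finsupp.single i 1 + Finsupp.single i 1 = d := by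
        ext j
        by_cases hj : i = j
        · subst hj; simp; omega
        · simp [Finsupp.single_eq_of_ne (Ne.symm hj)]
      rw [hadd] at h
      simpa [Nat.cast_add_one_ne_zero] using h
  refine le_bot_iff.1 ?_
  rw [← Ideal.iInf_pow_eq_bot_of_isDomain (aug (k := k) (A := A)) (RingHom.ker_ne_top _)]
  exact le_iInf fun n a ha => Ideal.pow_le_pow_right (Nat.le_succ n) (hpow n a ha)

/-- For a connected group a subspace stable under the Lie algebra is a subrepresentation. -/
theorem isSubcomod_of_tangent [CharZero k] [Algebra.FiniteType k A] [IsDomain A] {V : Type w} [AddCommGroup V]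
    [Module k V] [HopfRep.Comod k A V] (U : Submodule k V)
    (hU : ∀ τ : A →ₗ[k] k, IsTangent τ → ∀ u ∈ U, dact V τ u ∈ U) :
    HopfRep.IsSubcomod (k := k) (A := A) U := by
  let J : Ideal A := Ideal.span {a | ∃ ℓ : V →ₗ[k] k, (∀ u ∈ U, ℓ u = 0) ∧ ∃ u ∈ U, H66.Coeff.coeff (C := A) ℓ u = a}
  have hJ : J = ⊥ := by
    refine eq_bot_of_stable (k := k) J (Ideal.span_le.2 ?_) fun τ hτ a ha => ?_
    · rintro _ ⟨ℓ, hℓ, u, hu, rfl⟩
      rw [SetLike.mem_coe, mem_aug, Bialgebra.counitAlgHom_apply, H66.Coeff.counit_coeff, hℓ u hu]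
    induction ha using Submodule.span_induction with
    | mem a ha =>
      obtain ⟨ℓ, hℓ, u, hu, rfl⟩ := ha
      refine Ideal.subset_span ⟨ℓ, hℓ, dact V τ u, hU τ hτ u hu, ?_⟩
      exact map_dact (H66.Coeff.isComodHom_coeff ℓ) τ u
    | zero => simp
    | add a b _ _ ha hb => rw [map_add]; exact add_mem ha hb
    | smul c a ha' ha =>
      rw [smul_eq_mul, inv_mul τ hτ]
      exact add_mem (J.mul_mem_left _ ha) (J.mul_mem_left _ ha')
  refine (isSubcomod_iff U).2 fun φ u hu => ?_
  by_contra hne
  obtain ⟨ℓ, hℓu, hℓU⟩ := Submodule.exists_dual_map_eq_bot_of_notMem hne inferInstance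
  have hU0 : ∀ u ∈ U, ℓ u = 0 := fun u hu => by
    have : ℓ u ∈ U.map ℓ := ⟨u, hu, rfl⟩
    rwa [hℓU, Submodule.mem_bot] at this
  have h0 : H66.Coeff.coeff (C := A) ℓ u ∈ (⊥ : Ideal A) := hJ ▸ Ideal.subset_span ⟨ℓ, hU0, u, hu, rfl⟩
  refine hℓu ?_
  rw [dact_apply]
  have key : ∀ x : V ⊗[k] A, ℓ (contract V φ x) = φ (TensorProduct.lid k A (ℓ.rTensor A x)) := fun x => by
    induction x using TensorProduct.induction_on with
    | zero => simp
    | tmul v a => simp [mul_comm]
    | add p q hp hq => simp only [map_add, hp, hq]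
  rw [key, ← H66.Coeff.coeff_apply, (Submodule.mem_bot A).1 h0, map_zero]

/-- The bracket of tangent vectors. -/
theorem isTangent_bracket {σ τ : A →ₗ[k] k} (hσ : IsTangent σ) (hτ : IsTangent τ) :
    IsTangent (σ ∘ₗ inv τ - τ ∘ₗ inv σ) := by
  intro a b
  have e1 : ∀ a, Bialgebra.counitAlgHom k A (inv τ a) = τ a := counit_inv τ
  have e2 : ∀ a, Bialgebra.counitAlgHom k A (inv σ a) = σ a := counit_inv σ
  simp only [LinearMap.sub_apply, LinearMap.comp_apply, inv_mul τ hτ, inv_mul σ hσ, map_add, hσ _ _, hτ _ _, e1, e2]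
  ring

theorem conv_eq_comp_inv (σ τ : A →ₗ[k] k) : conv σ τ = σ ∘ₗ inv τ := by
  refine LinearMap.ext fun a => ?_
  simp only [conv, LinearMap.comp_apply, inv]
  induction CoalgebraStruct.comul (R := k) a using TensorProduct.induction_on with
  | zero => simp
  | tmul x y => simp [mul_comm]
  | add p q hp hq => simp only [map_add, hp, hq]

theorem dact_bracket (V : Type w) [AddCommGroup V] [Module k V] [HopfRep.Comod k A V] (σ τ : A →ₗ[k] k) :
    dact V (σ ∘ₗ inv τ - τ ∘ₗ inv σ) = dact V σ * dact V τ - dact V τ * dact V σ := by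
  refine LinearMap.ext fun v => ?_
  rw [LinearMap.sub_apply, Module.End.mul_apply, Module.End.mul_apply, dact_dact, dact_dact, conv_eq_comp_inv,
    conv_eq_comp_inv, ← dactAt_apply, map_sub, dactAt_apply, dactAt_apply]

variable {N : ℕ} (e : GLn N k →ₐc[k] A)

/-- The matrix of coefficients of the embedding. -/
def eMat : Matrix (Fin N) (Fin N) A := fun i j => e (GLn.X i j)

theorem isMat_eMat : H66.MatComod.IsMat k (eMat e) := by
  refine ⟨fun i j => ?_, fun i j => ?_⟩
  · simp only [eMat]
    rw [← CoalgHomClass.map_comp_comul_apply e, GLn.comul_X, map_sum]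
    simp
  · simp only [eMat]
    rw [CoalgHomClass.counit_comp_apply, GLn.counit_X]

/-- The representation of the embedding. -/
@[reducible] def eComod : HopfRep.Comod k A (Fin N → k) := H66.MatComod.comod (isMat_eMat e)

/-- The operators of tangent vectors. -/
def eAct : tanSpace k A →ₗ[k] Module.End k (Fin N → k) :=
  letI := eComod e
  { toFun := fun τ => dact (Fin N → k) (τ : A →ₗ[k] k)
    map_add' := fun σ τ => by rw [Submodule.coe_add, dact_add]
    map_smul' := fun c τ => by rw [Submodule.coe_smul, dact_smul]; rfl }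

theorem coeff_proj (i : Fin N) (v : Fin N → k) :
    (letI := eComod e; H66.Coeff.coeff (C := A) (LinearMap.proj i) v) = ∑ j, v j • eMat e i j := by
  letI := eComod e
  have hv : v = ∑ j, v j • (Pi.single j 1 : Fin N → k) := by
    funext l; simp [Finset.sum_apply, Pi.single_apply]
  conv_lhs => rw [hv]
  rw [map_sum]
  refine Finset.sum_congr rfl fun j _ => ?_
  rw [map_smul, H66.Coeff.coeff_apply]
  congr 1
  change TensorProduct.lid k A (LinearMap.rTensor A (LinearMap.proj i) (H66.MatComod.coactFun (eMat e) _)) = _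
  rw [H66.MatComod.coactFun_single]
  simp [Pi.single_apply, TensorProduct.ite_tmul]

theorem eAct_injective (he : Function.Surjective e) : Function.Injective (eAct e) := by
  letI := eComod e
  refine (injective_iff_map_eq_zero _).2 fun τ hτ => Subtype.ext (LinearMap.ext fun a => ?_)
  obtain ⟨f, rfl⟩ := he a
  let S : Subalgebra k (GLn N k) :=
    { carrier := {f | (τ : A →ₗ[k] k) (e f) = 0}
      mul_mem' := fun {a b} ha hb => by
        simp only [Set.mem_setOf_eq] at ha hb ⊢
        rw [map_mul, τ.2 _ _, ha, hb]; simp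
      add_mem' := fun {a b} ha hb => by simp only [Set.mem_setOf_eq] at ha hb ⊢; rw [map_add, map_add, ha, hb, add_zero]
      algebraMap_mem' := fun c => by
        have h1 := τ.2 1 1
        simp only [one_mul, map_one, mul_one] at h1
        have h2 : (τ : A →ₗ[k] k) 1 = 0 := by linear_combination -h1
        simp only [Set.mem_setOf_eq]
        rw [Algebra.algebraMap_eq_smul_one, map_smul, map_smul, map_one, h2]
        simp }
  have hX : ∀ i j, GLn.X i j ∈ S := fun i j => by
    have h := congrFun (LinearMap.congr_fun hτ (Pi.single j 1)) i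
    change (τ : A →ₗ[k] k) (eMat e i j) = 0
    change dact (Fin N → k) (τ : A →ₗ[k] k) (Pi.single j 1) i = (0 : k) at h
    have h2 := H66.Coeff.counit_coeff (C := A) (LinearMap.proj (R := k) i)
      (dact (Fin N → k) (τ : A →ₗ[k] k) (Pi.single j 1))
    have h3 := map_dact (H66.Coeff.isComodHom_coeff (C := A) (V := Fin N → k) (LinearMap.proj (R := k) i))
      (τ : A →ₗ[k] k) (Pi.single j 1)
    have h4 : H66.Coeff.coeff (C := A) (LinearMap.proj (R := k) i) (Pi.single j 1 : Fin N → k) = eMat e i j := by
      rw [coeff_proj]; simp [Pi.single_apply]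
    rw [h3, h4] at h2
    exact (counit_inv _ _).symm.trans (h2.trans h)
  have hdet : GLn.det ∈ S := by
    rw [GLn.det_eq, Matrix.det_apply]
    exact Subalgebra.sum_mem _ fun σ _ => Subalgebra.zsmul_mem _ (Subalgebra.prod_mem _ fun i _ => hX _ _) _
  have hD : GLn.Dinv ∈ S := by
    have h : (τ : A →ₗ[k] k) (e (GLn.det * GLn.Dinv : GLn N k)) = (τ : A →ₗ[k] k) (e 1) := by rw [GLn.det_mul_Dinv]
    rw [map_mul, τ.2, show (τ : A →ₗ[k] k) (e 1) = 0 from S.one_mem, show (τ : A →ₗ[k] k) (e GLn.det) = 0 from hdet,
      zero_mul, add_zero] at h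
    refine (mul_eq_zero.1 h).resolve_left ?_
    rw [Bialgebra.counitAlgHom_apply, CoalgHomClass.counit_comp_apply]
    change Bialgebra.counitAlgHom k (GLn N k) GLn.det ≠ 0
    intro h0
    have := congrArg (Bialgebra.counitAlgHom k (GLn N k)) (GLn.det_mul_Dinv (n := N) (k := k))
    rw [map_mul, h0, zero_mul, map_one] at this
    exact zero_ne_one this
  exact (HM.subalgebra_eq_top S hX hD).ge (Algebra.mem_top (x := f))

/-- The Lie algebra. -/
def gLie : LieSubalgebra k (Module.End k (Fin N → k)) :=
  { LinearMap.range (eAct e) with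
    lie_mem' := by
      rintro _ _ ⟨σ, rfl⟩ ⟨τ, rfl⟩
      letI := eComod e
      exact ⟨⟨_, isTangent_bracket σ.2 τ.2⟩, dact_bracket (Fin N → k) _ _⟩ }

/-- Tangent vectors as elements of the Lie algebra. -/
def tanEquiv (he : Function.Surjective e) : tanSpace k A ≃ₗ[k] gLie e :=
  LinearEquiv.ofInjective (eAct e) (eAct_injective e he)

theorem dact_tanEquiv_symm (he : Function.Surjective e) (x : gLie e) :
    (x : Module.End k (Fin N → k)) =
      (letI := eComod e; dact (Fin N → k) (((tanEquiv e he).symm x : tanSpace k A) : A →ₗ[k] k)) := by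
  conv_lhs => rw [← (tanEquiv e he).apply_symm_apply x]
  rfl

/-- The representation of the Lie algebra on a representation. -/
def gRep (he : Function.Surjective e) (V : Type w) [AddCommGroup V] [Module k V] [HopfRep.Comod k A V] :
    gLie e →ₗ⁅k⁆ Module.End k V where
  toFun x := dact V (((tanEquiv e he).symm x : tanSpace k A) : A →ₗ[k] k)
  map_add' x y := by rw [map_add, Submodule.coe_add, dact_add]
  map_smul' c x := by rw [map_smul, Submodule.coe_smul, dact_smul]; rfl
  map_lie' := fun {x y} => by
    have h : (tanEquiv e he).symm ⁅x, y⁆ =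
        ⟨_, isTangent_bracket ((tanEquiv e he).symm x).2 ((tanEquiv e he).symm y).2⟩ := by
      rw [LinearEquiv.symm_apply_eq]
      refine Subtype.ext ?_
      letI := eComod e
      change ⁅(x : Module.End k (Fin N → k)), (y : Module.End k (Fin N → k))⁆ =
        dact (Fin N → k) _
      rw [dact_bracket, Ring.lie_def, ← dact_tanEquiv_symm e he x, ← dact_tanEquiv_symm e he y]
    rw [h, dact_bracket]
    rfl

theorem aeval_comm {V W : Type*} [AddCommGroup V] [Module k V] [AddCommGroup W] [Module k W] (g : V →ₗ[k] W)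
    (f₁ : Module.End k V) (f₂ : Module.End k W) (h : ∀ v, g (f₁ v) = f₂ (g v)) (p : Polynomial k) (v : V) :
    g (Polynomial.aeval f₁ p v) = Polynomial.aeval f₂ p (g v) := by
  induction p using Polynomial.induction_on generalizing v with
  | C a => simp
  | add p q hp hq => simp [hp, hq]
  | monomial n a ih =>
    rw [pow_succ, ← mul_assoc, map_mul, map_mul (Polynomial.aeval f₂), Polynomial.aeval_X, Polynomial.aeval_X,
      Module.End.mul_apply, Module.End.mul_apply, ih, h]

theorem inv_groupLike (τ : A →ₗ[k] k) {a : A} (ha : CoalgebraStruct.comul (R := k) a = a ⊗ₜ[k] a) :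
    inv τ a = τ a • a := by
  rw [inv, LinearMap.comp_apply, ha, contract_tmul]

/-- A central element of the Lie algebra acts semisimply in every representation. -/
theorem isSemisimple_gRep [IsAlgClosed k] (he : Function.Surjective e) (z : gLie e)
    (hz : (⨆ c : k, Module.End.eigenspace (z : Module.End k (Fin N → k)) c) = ⊤)
    (V : Type w) [AddCommGroup V] [Module k V] [FiniteDimensional k V] [HopfRep.Comod k A V] :
    (gRep e he V z).IsSemisimple := by
  classical
  letI := eComod e
  set τ : A →ₗ[k] k := (((tanEquiv e he).symm z : tanSpace k A) : A →ₗ[k] k) with hτ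
  have hτt : IsTangent τ := ((tanEquiv e he).symm z).2
  have hzτ : (z : Module.End k (Fin N → k)) = dact (Fin N → k) τ := dact_tanEquiv_symm e he z
  let D : Module.End k A := inv τ
  let E : Submodule k A := ⨆ c : k, Module.End.eigenspace D c
  have hEmul : ∀ a ∈ E, ∀ b ∈ E, a * b ∈ E := by
    intro a ha b hb
    induction ha using Submodule.iSup_induction' with
    | mem c a hac =>
      induction hb using Submodule.iSup_induction' with
      | mem d b hbd =>
        refine Submodule.mem_iSup_of_mem (c + d) (Module.End.mem_eigenspace_iff.2 ?_)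
        rw [Module.End.mem_eigenspace_iff] at hac hbd
        change inv τ (a * b) = _
        rw [inv_mul τ hτt, show inv τ a = c • a from hac, show inv τ b = d • b from hbd, add_smul,
          mul_smul_comm, smul_mul_assoc, add_comm]
      | zero => simp
      | add x y _ _ hx hy => rw [mul_add]; exact add_mem hx hy
    | zero => simp
    | add x y _ _ hx hy => rw [add_mul]; exact add_mem hx hy
  have hEgl : ∀ a : A, CoalgebraStruct.comul (R := k) a = a ⊗ₜ[k] a → a ∈ E := fun a ha =>
    Submodule.mem_iSup_of_mem (τ a) (Module.End.mem_eigenspace_iff.2 (inv_groupLike τ ha))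
  let S : Subalgebra k (GLn N k) :=
    { carrier := {f | e f ∈ E}
      mul_mem' := fun {a b} ha hb => by
        simp only [Set.mem_setOf_eq] at ha hb ⊢; rw [map_mul]; exact hEmul _ ha _ hb
      add_mem' := fun {a b} ha hb => by simp only [Set.mem_setOf_eq] at ha hb ⊢; rw [map_add]; exact add_mem ha hb
      algebraMap_mem' := fun c => by
        simp only [Set.mem_setOf_eq]
        rw [Algebra.algebraMap_eq_smul_one, map_smul, map_one]
        exact E.smul_mem c (hEgl 1 (by simp [Algebra.TensorProduct.one_def])) }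
  have hX : ∀ i j, GLn.X i j ∈ S := fun i j => by
    change eMat e i j ∈ E
    rw [show eMat e i j = H66.Coeff.coeff (C := A) (LinearMap.proj i) (Pi.single j 1 : Fin N → k) by
      rw [coeff_proj]; simp [Pi.single_apply]]
    have hmem : (Pi.single j 1 : Fin N → k) ∈ (⨆ c : k, Module.End.eigenspace (z : Module.End k (Fin N → k)) c) :=
      hz ▸ trivial
    suffices hall : ∀ v : Fin N → k, v ∈ (⨆ c : k, Module.End.eigenspace (z : Module.End k (Fin N → k)) c) →
        H66.Coeff.coeff (C := A) (LinearMap.proj i) v ∈ E from hall _ hmem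
    intro v hv
    induction hv using Submodule.iSup_induction' with
    | mem c v hv =>
      refine Submodule.mem_iSup_of_mem c (Module.End.mem_eigenspace_iff.2 ?_)
      rw [Module.End.mem_eigenspace_iff, hzτ] at hv
      change inv τ _ = _
      rw [show inv τ (H66.Coeff.coeff (C := A) (LinearMap.proj i) v) = dact A τ (H66.Coeff.coeff (C := A) (LinearMap.proj i) v)
        from rfl, ← map_dact (H66.Coeff.isComodHom_coeff _), hv, map_smul]
    | zero => rw [map_zero]; exact zero_mem _
    | add x y _ _ hx hy => rw [map_add]; exact add_mem hx hy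
  have hD : GLn.Dinv ∈ S := hEgl _ (by
    rw [← CoalgHomClass.map_comp_comul_apply e, GLn.comul_Dinv, TensorProduct.map_tmul]; rfl)
  have htop : ∀ a : A, a ∈ E := fun a => by
    obtain ⟨f, rfl⟩ := he a
    exact (HM.subalgebra_eq_top S hX hD).ge (Algebra.mem_top (x := f))
  let b := Module.finBasis k V
  have hfin : ∀ a : A, ∃ s : Finset k, a ∈ ⨆ c ∈ s, Module.End.eigenspace D c := fun a => by
    obtain ⟨s, hs⟩ := Submodule.exists_finset_of_mem_iSup _ (htop a)
    exact ⟨s, hs⟩
  choose cs hcs using hfin
  let s : Finset k := Finset.univ.biUnion fun p : Fin (Module.finrank k V) × Fin (Module.finrank k V) =>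
    cs (H66.Coeff.coeff (C := A) (b.coord p.1) (b p.2))
  let q : Polynomial k := ∏ c ∈ s, (Polynomial.X - Polynomial.C c)
  have hq : ∀ a : A, (∃ t ⊆ s, a ∈ ⨆ c ∈ t, Module.End.eigenspace D c) → Polynomial.aeval D q a = 0 := by
    rintro a ⟨t, ht, ha⟩
    have : (⨆ c ∈ t, Module.End.eigenspace D c) ≤ LinearMap.ker (Polynomial.aeval D q) := by
      refine iSup₂_le fun c hc v hv => ?_
      rw [LinearMap.mem_ker]
      by_cases hv0 : v = 0
      · rw [hv0, map_zero]
      rw [Module.End.aeval_apply_of_hasEigenvector ⟨hv, hv0⟩, Polynomial.eval_prod,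
        Finset.prod_eq_zero (ht hc) (by simp), zero_smul]
    exact this ha
  refine Module.End.isSemisimple_of_squarefree_aeval_eq_zero (p := q)
    ((Polynomial.separable_prod_X_sub_C_iff'.2 fun x hx y hy h => h).squarefree) ?_
  refine b.ext fun j => b.ext_elem fun i => ?_
  rw [LinearMap.zero_apply, map_zero, Finsupp.zero_apply, ← Module.Basis.coord_apply,
    show gRep e he V z = dact V τ from rfl,
    ← H66.Coeff.counit_coeff (C := A) (b.coord i),
    aeval_comm (H66.Coeff.coeff (C := A) (b.coord i)) _ D (fun v => map_dact (H66.Coeff.isComodHom_coeff _) τ v) q,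
    hq _ ⟨_, Finset.subset_biUnion_of_mem (fun p : Fin (Module.finrank k V) × Fin (Module.finrank k V) =>
      cs (H66.Coeff.coeff (C := A) (b.coord p.1) (b p.2))) (Finset.mem_univ (i, j)), hcs _⟩, map_zero]

/-- A connected group in characteristic zero with a faithful completely reducible representation is linearly
reductive. -/
theorem isLinearlyReductive [CharZero k] [IsAlgClosed k] [Algebra.FiniteType k A] [IsDomain A]
    (he : Function.Surjective e) (hss : @HopfRep.IsSemisimpleComod k A _ _ _ _ (Fin N → k) _ _ (eComod e)) :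
    HopfRep.IsLinearlyReductive k A := by
  letI := eComod e
  have hsub : ∀ {V : Type u} [AddCommGroup V] [Module k V] [HopfRep.Comod k A V] (U : Submodule k V),
      (∀ x, ∀ u ∈ U, gRep e he V x u ∈ U) → HopfRep.IsSubcomod (k := k) (A := A) U := fun U hU =>
    isSubcomod_of_tangent U fun τ hτ u hu => by
      have := hU (tanEquiv e he ⟨τ, hτ⟩) u hu
      change dact _ _ u ∈ U at this
      rwa [LinearEquiv.symm_apply_apply] at this
  have hπ : IsFaithfulSemisimple (gLie e).incl := by
    refine ⟨Subtype.val_injective, fun U hU => ?_⟩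
    have hUs : HopfRep.IsSubcomod (k := k) (A := A) U := hsub U fun x u hu => by
      have := hU x u hu
      change (x : Module.End k (Fin N → k)) u ∈ U at this
      rwa [dact_tanEquiv_symm e he x] at this
    obtain ⟨U', hU', hc⟩ := hss U hUs
    refine ⟨U', fun x u hu => ?_, hc⟩
    change (x : Module.End k (Fin N → k)) u ∈ U'
    rw [dact_tanEquiv_symm e he x]
    exact dact_mem hU' _ hu
  intro V _ _ _ _ U hU
  obtain ⟨U', hU', hc⟩ := exists_compl hπ (gRep e he V)
    (fun z hz => isSemisimple_gRep e he z (isSemisimple_of_mem_center hπ hz) V) U fun x u hu => dact_mem hU _ hu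
  exact ⟨U', hsub U' hU', hc⟩

end

end Groth.Agent.H60.RedLR
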