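import Groth.Agent.H60.RedLR.Whitehead
import Mathlib.LinearAlgebra.Semisimple
import Mathlib.RingTheory.Artinian.Module

/-!
Complete reducibility for reductive Lie algebras.
-/

set_option autoImplicit false

universe u v w

open Module LieModule LieAlgebra

attribute [local instance] LieRing.ofAssociativeRing LieRingModule.ofAssociativeModule
attribute [local instance] LieModule.ofAssociativeModule

namespace Groth.Agent.H60.RedLR

variable {k : Type u} [Field k] [CharZero k] [IsAlgClosed k]
  {L : Type v} [LieRing L] [LieAlgebra k L] [FiniteDimensional k L]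

/-- The first Whitehead lemma. -/
theorem whitehead [HasTrivialRadical k L] {M : Type w} [AddCommGroup M] [Module k M] [FiniteDimensional k M]
    (ρ : L →ₗ⁅k⁆ Module.End k M) (φ : L →ₗ[k] M)
    (hφ : ∀ x y, φ ⁅x, y⁆ = ρ x (φ y) - ρ y (φ x)) : ∃ m, ∀ x, φ x = ρ x m := by
  obtain ⟨n, hn⟩ : ∃ n, finrank k M = n := ⟨_, rfl⟩
  induction n using Nat.strong_induction_on generalizing M with
  | _ n ih =>
    subst hn
    by_cases hirr : ∀ U : Submodule k M, (∀ x, ∀ m ∈ U, ρ x m ∈ U) → U = ⊥ ∨ U = ⊤
    · exact whitehead_irreducible ρ hirr φ hφ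
    push Not at hirr
    obtain ⟨U, hU, hU0, hU1⟩ := hirr
    let ρQ : L →ₗ⁅k⁆ Module.End k (M ⧸ U) :=
      { toFun := fun x => U.mapQ U (ρ x) fun m hm => hU x m hm
        map_add' := fun x y => Submodule.linearMap_qext _ (by ext m; simp)
        map_smul' := fun c x => Submodule.linearMap_qext _ (by ext m; simp)
        map_lie' := fun {x y} => Submodule.linearMap_qext _ (by ext m; simp [Ring.lie_def]) }
    obtain ⟨q, hq⟩ := ih (finrank k (M ⧸ U)) (by
      have := Submodule.finrank_quotient_add_finrank U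
      have : 0 < finrank k U := Nat.pos_of_ne_zero fun h => hU0 (Submodule.finrank_eq_zero.1 h)
      omega) ρQ (U.mkQ ∘ₗ φ) (fun x y => by simp [ρQ, hφ]) rfl
    obtain ⟨m₀, rfl⟩ := U.mkQ_surjective q
    have hmem : ∀ x, φ x - ρ x m₀ ∈ U := fun x => (Submodule.Quotient.eq U).1 (hq x)
    let ψ : L →ₗ[k] U :=
      (φ - (LinearMap.applyₗ m₀).comp (ρ : L →ₗ[k] Module.End k M)).codRestrict U hmem
    let ρU : L →ₗ⁅k⁆ Module.End k U :=
      { toFun := fun x => (ρ x).restrict (hU x)
        map_add' := fun x y => by ext m; simp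
        map_smul' := fun c x => by ext m; simp
        map_lie' := fun {x y} => by ext m; simp [Ring.lie_def] }
    obtain ⟨u, hu⟩ := ih (finrank k U) (Submodule.finrank_lt hU1) ρU ψ (fun x y => Subtype.ext (by
      change φ ⁅x, y⁆ - ρ ⁅x, y⁆ m₀ = ρ x (φ y - ρ y m₀) - ρ y (φ x - ρ x m₀)
      simp [hφ, Ring.lie_def]; abel)) rfl
    refine ⟨m₀ + u, fun x => ?_⟩
    have h1 : φ x - ρ x m₀ = ρ x (u : M) := congrArg Subtype.val (hu x)
    rw [map_add, ← h1, add_sub_cancel]

variable {W : Type w} [AddCommGroup W] [Module k W] [FiniteDimensional k W]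

/-- A faithful completely reducible representation. -/
structure IsFaithfulSemisimple (π : L →ₗ⁅k⁆ Module.End k W) : Prop where
  inj : Function.Injective π
  compl : ∀ U : Submodule k W, (∀ x, ∀ m ∈ U, π x m ∈ U) →
    ∃ U' : Submodule k W, (∀ x, ∀ m ∈ U', π x m ∈ U') ∧ IsCompl U U'

variable {π : L →ₗ⁅k⁆ Module.End k W}

/-- On an irreducible invariant subspace the radical acts by scalars. -/
theorem exists_scalar (N : Submodule k W) (hN : ∀ x, ∀ m ∈ N, π x m ∈ N) (hN0 : N ≠ ⊥)
    (hirr : ∀ U : Submodule k W, U ≤ N → (∀ x, ∀ m ∈ U, π x m ∈ U) → U = ⊥ ∨ U = N)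
    {z : L} (hz : z ∈ radical k L) : ∃ c : k, ∀ m ∈ N, π z m = c • m := by
  let ρN : L →ₗ⁅k⁆ Module.End k N :=
    { toFun := fun x => (π x).restrict (hN x)
      map_add' := fun x y => by ext m; simp
      map_smul' := fun c x => by ext m; simp
      map_lie' := fun {x y} => by ext m; simp [Ring.lie_def] }
  haveI : Nontrivial N := Submodule.nontrivial_iff_ne_bot.2 hN0
  haveI : LieModule.IsIrreducible k ρN.range N := by
    refine LieModule.IsIrreducible.mk fun U hU => ?_
    have h := hirr (U.toSubmodule.map N.subtype) (Submodule.map_subtype_le _ _) (by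
      rintro x _ ⟨m, hm, rfl⟩
      exact ⟨ρN x m, U.lie_mem (x := (⟨ρN x, ⟨x, rfl⟩⟩ : ρN.range)) hm, rfl⟩)
    rcases h with h | h
    · exact absurd ((LieSubmodule.toSubmodule_eq_bot U).1
        (Submodule.map_injective_of_injective N.subtype_injective (h.trans (Submodule.map_bot _).symm))) hU
    · refine (LieSubmodule.toSubmodule_eq_top U).1
        (Submodule.map_injective_of_injective N.subtype_injective ?_)
      rw [h, Submodule.map_subtype_top]
  haveI : LieModule.IsFaithful k ρN.range N := ⟨fun a b hab => Subtype.ext hab⟩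
  obtain ⟨hc, hscalar⟩ := hasCentralRadical_and_of_isIrreducible_of_isFaithful k ρN.range N
  let f : L →ₗ⁅k⁆ ρN.range := ρN.rangeRestrict
  have hf : Function.Surjective f := ρN.surjective_rangeRestrict
  haveI : IsSolvable (LieIdeal.map f (radical k L)) := by
    have h : ((radical k L).map f : LieIdeal k ρN.range).toSubmodule =
        (radical k L).toSubmodule.map (f : L →ₗ[k] ρN.range) :=
      LieIdeal.coe_map_of_surjective hf
    let g : radical k L →ₗ⁅k⁆ LieIdeal.map f (radical k L) :=
      { toFun := fun x => ⟨f x, LieIdeal.mem_map x.2⟩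
        map_add' := fun x y => Subtype.ext (map_add f (x : L) y)
        map_smul' := fun c x => Subtype.ext (map_smul f c (x : L))
        map_lie' := fun {x y} => Subtype.ext (LieHom.map_lie f (x : L) y) }
    refine Function.Surjective.lieAlgebra_isSolvable (f := g) ?_
    rintro ⟨y, hy⟩
    rw [← LieSubmodule.mem_toSubmodule, h] at hy
    obtain ⟨x, hx, rfl⟩ := hy
    exact ⟨⟨x, hx⟩, rfl⟩
  have hmem : f z ∈ center k ρN.range := by
    rw [← hc.radical_eq_center]
    exact (LieIdeal.solvable_iff_le_radical k _ _).1 inferInstance (LieIdeal.mem_map hz)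
  obtain ⟨c, hc'⟩ := Submodule.mem_span_singleton.1 ((hscalar (f z)).1 hmem)
  exact ⟨c, fun m hm => (congrArg Subtype.val (LinearMap.congr_fun hc' ⟨m, hm⟩)).symm⟩

/-- The eigenvectors of the radical span. -/
theorem radical_span (hπ : IsFaithfulSemisimple π) :
    ∀ w : W, w ∈ Submodule.span k {m : W | ∀ z ∈ radical k L, ∃ c : k, π z m = c • m} := by
  set E := Submodule.span k {m : W | ∀ z ∈ radical k L, ∃ c : k, π z m = c • m}
  suffices H : ∀ n (N : Submodule k W), finrank k N = n → (∀ x, ∀ m ∈ N, π x m ∈ N) → N ≤ E from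
    fun w => H _ ⊤ rfl (fun _ _ _ => trivial) trivial
  intro n
  induction n using Nat.strong_induction_on with
  | _ n ih =>
    intro N hn hN
    subst hn
    by_cases hN0 : N = ⊥
    · simp [hN0]
    by_cases hirr : ∀ U : Submodule k W, U ≤ N → (∀ x, ∀ m ∈ U, π x m ∈ U) → U = ⊥ ∨ U = N
    · intro m hm
      refine Submodule.subset_span fun z hz => ?_
      obtain ⟨c, hc⟩ := exists_scalar N hN hN0 hirr hz
      exact ⟨c, hc m hm⟩
    push Not at hirr
    obtain ⟨U, hUN, hU, hU0, hUN'⟩ := hirr
    obtain ⟨U', hU', hcompl⟩ := hπ.compl U hU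
    have h1 : N = U ⊔ U' ⊓ N := by
      rw [← sup_inf_assoc_of_le U' hUN, hcompl.sup_eq_top, top_inf_eq]
    have hlt : U' ⊓ N < N := by
      refine lt_of_le_of_ne inf_le_right fun h => hU0 ?_
      rw [← le_bot_iff, ← hcompl.inf_eq_bot]
      exact le_inf le_rfl (hUN.trans (h ▸ inf_le_left))
    rw [h1]
    exact sup_le (ih _ (Submodule.finrank_lt_finrank_of_lt (lt_of_le_of_ne hUN hUN')) U rfl hU)
      (ih _ (Submodule.finrank_lt_finrank_of_lt hlt) _ rfl fun x m hm => ⟨hU' x m hm.1, hN x m hm.2⟩)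

/-- Commutators with the radical act by zero. -/
theorem commutator_eq_zero (hπ : IsFaithfulSemisimple π) {z : L} (hz : z ∈ radical k L) (x : L) (w : W) :
    π ⁅x, z⁆ w = 0 := by
  suffices H : ∀ n (N : Submodule k W), finrank k N = n → (∀ y, ∀ m ∈ N, π y m ∈ N) → ∀ m ∈ N, π ⁅x, z⁆ m = 0 from
    H _ ⊤ rfl (fun _ _ _ => trivial) w trivial
  intro n
  induction n using Nat.strong_induction_on with
  | _ n ih =>
    intro N hn hN
    subst hn
    by_cases hN0 : N = ⊥
    · intro m hm; rw [hN0, Submodule.mem_bot] at hm; simp [hm]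
    by_cases hirr : ∀ U : Submodule k W, U ≤ N → (∀ x, ∀ m ∈ U, π x m ∈ U) → U = ⊥ ∨ U = N
    · intro m hm
      obtain ⟨c, hc⟩ := exists_scalar N hN hN0 hirr hz
      rw [LieHom.map_lie, Ring.lie_def, LinearMap.sub_apply, Module.End.mul_apply, Module.End.mul_apply,
        hc m hm, map_smul, hc _ (hN x m hm), sub_self]
    push Not at hirr
    obtain ⟨U, hUN, hU, hU0, hUN'⟩ := hirr
    obtain ⟨U', hU', hcompl⟩ := hπ.compl U hU
    have hlt : U' ⊓ N < N := by
      refine lt_of_le_of_ne inf_le_right fun h => hU0 ?_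
      rw [← le_bot_iff, ← hcompl.inf_eq_bot]
      exact le_inf le_rfl (hUN.trans (h ▸ inf_le_left))
    intro m hm
    have hm' : m ∈ U ⊔ U' ⊓ N := by
      rwa [← sup_inf_assoc_of_le U' hUN, hcompl.sup_eq_top, top_inf_eq]
    obtain ⟨a, ha, b, hb, rfl⟩ := Submodule.mem_sup.1 hm'
    rw [map_add, ih _ (Submodule.finrank_lt_finrank_of_lt (lt_of_le_of_ne hUN hUN')) U rfl hU a ha,
      ih _ (Submodule.finrank_lt_finrank_of_lt hlt) _ rfl (fun y u hu => ⟨hU' y u hu.1, hN y u hu.2⟩) b hb, add_zero]

/-- The radical is the centre. -/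
theorem hasCentralRadical (hπ : IsFaithfulSemisimple π) : HasCentralRadical k L := by
  refine hasCentralRadical_of_radical_le k L fun z hz => (mem_maxTrivSubmodule k L L z).2 fun x => hπ.inj ?_
  rw [map_zero]
  exact LinearMap.ext (commutator_eq_zero hπ hz x)

/-- The centre acts semisimply. -/
theorem isSemisimple_of_mem_center (hπ : IsFaithfulSemisimple π) {z : L} (hz : z ∈ center k L) :
    (⨆ c : k, Module.End.eigenspace (π z) c) = ⊤ := by
  refine eq_top_iff.2 fun w _ => ?_
  refine Submodule.span_le.2 ?_ (radical_span hπ w)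
  intro m hm
  obtain ⟨c, hc⟩ := hm z (center_le_radical k L hz)
  exact Submodule.mem_iSup_of_mem c (Module.End.mem_eigenspace_iff.2 hc)

/-- Modulo the centre there is no radical. -/
theorem hasTrivialRadical_quotient (hπ : IsFaithfulSemisimple π) : HasTrivialRadical k (L ⧸ center k L) := by
  have hc := (hasCentralRadical hπ).radical_eq_center
  refine hasTrivialRadical_of_no_solvable_ideals fun I hI => ?_
  let f : L →ₗ⁅k⁆ L ⧸ center k L :=
    { (center k L).toSubmodule.mkQ with map_lie' := fun {x y} => rfl }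
  let J : LieIdeal k L := I.comap f
  let g : J →ₗ⁅k⁆ I :=
    { toFun := fun x => ⟨f x, LieIdeal.mem_comap.1 x.2⟩
      map_add' := fun x y => Subtype.ext (map_add f (x : L) y)
      map_smul' := fun c x => Subtype.ext (map_smul f c (x : L))
      map_lie' := fun {x y} => Subtype.ext (LieHom.map_lie f (x : L) y) }
  obtain ⟨n, hn⟩ := IsSolvable.solvable (R := k) (L := I)
  haveI : IsSolvable J := by
    rw [LieIdeal.solvable_iff_le_radical k L]
    intro x hx
    haveI : IsSolvable J := by
      refine IsSolvable.mk (R := k) (k := n + 1) ?_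
      have h1 : ∀ y ∈ derivedSeries k J n, ((y : J) : L) ∈ center k L := fun y hy => by
        have h2 : g y ∈ derivedSeries k I n :=
          LieIdeal.derivedSeries_map_le n (LieIdeal.mem_map hy)
        rw [hn, LieSubmodule.mem_bot] at h2
        exact (Submodule.Quotient.mk_eq_zero _).1 (congrArg Subtype.val h2)
      rw [derivedSeries_def, derivedSeriesOfIdeal_succ, LieSubmodule.lie_eq_bot_iff]
      intro a ha b hb
      refine Subtype.ext ?_
      have h3 := (mem_maxTrivSubmodule k L L _).1 (h1 b hb) (a : L)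
      exact h3
    exact (LieIdeal.solvable_iff_le_radical k L J).1 inferInstance hx
  refine le_bot_iff.1 fun y hy => ?_
  obtain ⟨x, rfl⟩ := (center k L).toSubmodule.mkQ_surjective y
  have hx : x ∈ radical k L := (LieIdeal.solvable_iff_le_radical k L J).1 inferInstance hy
  rw [hc] at hx
  rw [LieSubmodule.mem_bot]
  exact (Submodule.Quotient.mk_eq_zero _).2 hx

/-- An algebra of commuting diagonalisable operators is semisimple. -/
theorem exists_commuting_compl {V : Type w} [AddCommGroup V] [Module k V] [FiniteDimensional k V]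
    (s : Set (Module.End k V)) (hcomm : ∀ a ∈ s, ∀ b ∈ s, Commute a b) (hss : ∀ a ∈ s, a.IsSemisimple)
    (U : Submodule k V) (hU : ∀ a ∈ s, ∀ u ∈ U, a u ∈ U) :
    ∃ f : V →ₗ[k] U, (∀ u : U, f u = u) ∧ ∀ a ∈ s, ∀ v, (f (a v) : V) = a (f v) := by
  let S := Algebra.adjoin k s
  letI : CommRing S :=
    { (inferInstance : Ring S) with
      mul_comm := fun a b => Subtype.ext
        ((Algebra.commute_of_mem_adjoin_of_forall_mem_commute a.2 fun x hx =>
          (Algebra.commute_of_mem_adjoin_of_forall_mem_commute b.2 fun y hy => hcomm x hx y hy).symm).symm.eq) }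
  have hall : ∀ a ∈ S, Module.End.IsSemisimple (a : Module.End k V) := by
    intro a ha
    induction ha using Algebra.adjoin_induction with
    | mem x hx => exact hss x hx
    | algebraMap c =>
      exact Module.End.IsSemisimple.of_mem_adjoin_singleton
        (Module.End.isSemisimple_zero (R := k) (M := V)) (Subalgebra.algebraMap_mem _ c)
    | add x y hx hy ihx ihy =>
      exact ihx.add_of_commute (congrArg Subtype.val (mul_comm (⟨x, hx⟩ : S) ⟨y, hy⟩)) ihy
    | mul x y hx hy ihx ihy =>
      exact ihx.mul_of_commute (congrArg Subtype.val (mul_comm (⟨x, hx⟩ : S) ⟨y, hy⟩)) ihy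
  haveI : Module.Finite k S := Module.Finite.of_injective S.val.toLinearMap Subtype.val_injective
  haveI : IsArtinianRing S := isArtinian_of_tower k inferInstance
  haveI : IsReduced S := ⟨fun a ha => Subtype.ext
    (Module.End.eq_zero_of_isNilpotent_isSemisimple (ha.map S.val) (hall a a.2))⟩
  haveI : IsSemisimpleRing S := IsArtinianRing.isSemisimpleRing_of_isReduced S
  letI : Module S V := Module.compHom V S.val.toRingHom
  haveI : IsScalarTower k S V := ⟨fun c a v => by
    change ((c • a : S) : Module.End k V) v = c • ((a : Module.End k V) v)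
    simp⟩
  let U' : Submodule S V :=
    { U with
      smul_mem' := fun a u hu => by
        obtain ⟨a, ha⟩ := a
        change a u ∈ U
        induction ha using Algebra.adjoin_induction generalizing u with
        | mem x hx => exact hU x hx u hu
        | algebraMap c => exact U.smul_mem c hu
        | add x y _ _ ihx ihy => exact U.add_mem (ihx _ hu) (ihy _ hu)
        | mul x y _ _ ihx ihy => exact ihx _ (ihy _ hu) }
  obtain ⟨Q, hQ⟩ := exists_isCompl U'
  let f : V →ₗ[S] U' := U'.projectionOnto Q hQ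
  refine ⟨{ toFun := fun v => ⟨(f v : V), (f v).2⟩
            map_add' := fun a b => Subtype.ext (by simp)
            map_smul' := fun c a => Subtype.ext (by
              change (f (c • a) : V) = c • (f a : V)
              have hsm : ∀ x : V, c • x = (algebraMap k S c : S) • x := fun x => by
                change c • x = ((algebraMap k S c : S) : Module.End k V) x
                simp [Module.algebraMap_end_apply]
              rw [hsm, hsm]; exact congrArg Subtype.val (f.map_smul (algebraMap k S c) a)) },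
    fun u => Subtype.ext (congrArg Subtype.val (Submodule.projectionOnto_apply_left hQ ⟨u, u.2⟩)), fun a ha v => ?_⟩
  exact congrArg Subtype.val (f.map_smul (⟨a, Algebra.subset_adjoin ha⟩ : S) v)

/-- Invariant complements. -/
theorem exists_compl (hπ : IsFaithfulSemisimple π) {V : Type w} [AddCommGroup V] [Module k V] [FiniteDimensional k V]
    (ρ : L →ₗ⁅k⁆ Module.End k V) (hz : ∀ z ∈ center k L, (ρ z).IsSemisimple)
    (U : Submodule k V) (hU : ∀ x, ∀ u ∈ U, ρ x u ∈ U) :
    ∃ U' : Submodule k V, (∀ x, ∀ u ∈ U', ρ x u ∈ U') ∧ IsCompl U U' := by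
  have hcen : ∀ z ∈ center k L, ∀ x : L, ⁅x, z⁆ = 0 := fun z hzc => (mem_maxTrivSubmodule k L L z).1 hzc
  have hρc : ∀ z ∈ center k L, ∀ x, ∀ v, ρ x (ρ z v) = ρ z (ρ x v) := fun z hzc x v => by
    have h := LinearMap.congr_fun ((LieHom.map_lie ρ x z).symm.trans (by rw [hcen z hzc, map_zero])) v
    rw [Ring.lie_def, LinearMap.sub_apply, LinearMap.zero_apply, sub_eq_zero] at h
    exact h
  obtain ⟨f₀, hf₀, hf₀c⟩ := exists_commuting_compl (Set.range fun z : center k L => ρ z)
    (by rintro _ ⟨a, rfl⟩ _ ⟨b, rfl⟩; exact LinearMap.ext fun v => hρc b b.2 a v)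
    (by rintro _ ⟨a, rfl⟩; exact hz a a.2) U (by rintro _ ⟨a, rfl⟩; exact hU a)
  let D : L →ₗ[k] Module.End k (V →ₗ[k] U) :=
    { toFun := fun x =>
        { toFun := fun f => ((ρ x).restrict (hU x)).comp f - f.comp (ρ x)
          map_add' := fun f g => by ext v; simp; abel
          map_smul' := fun c f => by ext v; simp [smul_sub] }
      map_add' := fun x y => by ext f v; simp; abel
      map_smul' := fun c x => by ext f v; simp [smul_sub] }
  have hD : ∀ x (f : V →ₗ[k] U) v, ((D x f v : U) : V) = ρ x (f v) - f (ρ x v) := fun x f v => rfl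
  let E : Submodule k (V →ₗ[k] U) :=
    { carrier := {f | (∀ u : U, f u = 0) ∧ ∀ z ∈ center k L, ∀ v, (f (ρ z v) : V) = ρ z (f v)}
      add_mem' := fun {a b} ha hb => ⟨fun u => by simp [ha.1 u, hb.1 u],
        fun z hzc v => by simp [ha.2 z hzc v, hb.2 z hzc v]⟩
      zero_mem' := ⟨fun u => rfl, fun z _ v => by simp⟩
      smul_mem' := fun c a ha => ⟨fun u => by simp [ha.1 u], fun z hzc v => by simp [ha.2 z hzc v]⟩ }
  have hf₀E : ∀ x, D x f₀ ∈ E := fun x => by
    refine ⟨fun u => Subtype.ext ?_, fun z hzc v => ?_⟩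
    · rw [hD, hf₀ u, show (f₀ (ρ x (u : V)) : V) = ρ x u from congrArg Subtype.val (hf₀ ⟨_, hU x u u.2⟩)]
      simp
    · rw [hD, hD, map_sub, hf₀c _ ⟨⟨z, hzc⟩, rfl⟩, hρc z hzc, hρc z hzc, hf₀c _ ⟨⟨z, hzc⟩, rfl⟩]
  have hDE : ∀ x, ∀ f ∈ E, D x f ∈ E := fun x f hf => by
    refine ⟨fun u => Subtype.ext ?_, fun z hzc v => ?_⟩
    · rw [hD, hf.1 u, hf.1 ⟨_, hU x u u.2⟩]
      simp
    · rw [hD, hD, map_sub, hf.2 z hzc, hρc z hzc, hρc z hzc, hf.2 z hzc]
  let ρE : L →ₗ[k] Module.End k E :=
    { toFun := fun x => (D x).restrict (hDE x)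
      map_add' := fun x y => by ext f; simp
      map_smul' := fun c x => by ext f; simp }
  have hρE0 : ∀ z ∈ center k L, ρE z = 0 := fun z hzc =>
    LinearMap.ext fun f => Subtype.ext (LinearMap.ext fun v => Subtype.ext (by
      change ((D z (f : V →ₗ[k] U) v : U) : V) = ((0 : U) : V)
      rw [hD, f.2.2 z hzc, sub_self]; rfl))
  let φ : L →ₗ[k] E := (D.flip f₀).codRestrict E hf₀E
  have hφ0 : ∀ z ∈ center k L, φ z = 0 := fun z hzc =>
    Subtype.ext (LinearMap.ext fun v => Subtype.ext (by
      change ((D z f₀ v : U) : V) = ((0 : U) : V)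
      rw [hD, hf₀c _ ⟨⟨z, hzc⟩, rfl⟩, sub_self]; rfl))
  haveI := hasTrivialRadical_quotient hπ
  letI : AddCommGroup E := Submodule.addCommGroup E
  letI : Ring (Module.End k E) := Module.End.instRing
  let ρs : L ⧸ center k L →ₗ⁅k⁆ Module.End k E :=
    { (center k L).toSubmodule.liftQ ρE hρE0 with
      map_lie' := fun {a b} => by
        obtain ⟨x, rfl⟩ := (center k L).toSubmodule.mkQ_surjective a
        obtain ⟨y, rfl⟩ := (center k L).toSubmodule.mkQ_surjective b
        refine LinearMap.ext fun f => Subtype.ext (LinearMap.ext fun v => Subtype.ext ?_)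
        change ((D ⁅x, y⁆ (f : V →ₗ[k] U) v : U) : V) =
          (((D x (D y f) - D y (D x f)) v : U) : V)
        rw [LinearMap.sub_apply, Submodule.coe_sub]
        simp only [hD, LieHom.map_lie, Ring.lie_def, LinearMap.sub_apply, Module.End.mul_apply, map_sub]
        simp only [Submodule.coe_sub]
        abel }
  obtain ⟨m, hm⟩ := whitehead ρs ((center k L).toSubmodule.liftQ φ hφ0) fun a b => by
    obtain ⟨x, rfl⟩ := (center k L).toSubmodule.mkQ_surjective a
    obtain ⟨y, rfl⟩ := (center k L).toSubmodule.mkQ_surjective b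
    refine Subtype.ext (LinearMap.ext fun v => Subtype.ext ?_)
    change ((D ⁅x, y⁆ f₀ v : U) : V) = (((D x (D y f₀) - D y (D x f₀)) v : U) : V)
    rw [LinearMap.sub_apply, Submodule.coe_sub]
    simp only [hD, LieHom.map_lie, Ring.lie_def, LinearMap.sub_apply, Module.End.mul_apply, map_sub]
    simp only [Submodule.coe_sub]
    abel
  let f : V →ₗ[k] U := f₀ - (m : V →ₗ[k] U)
  have hfu : ∀ u : U, f u = u := fun u => by simp [f, hf₀ u, m.2.1 u]
  refine ⟨LinearMap.ker f, fun x u hu => ?_, LinearMap.isCompl_of_proj hfu⟩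
  have h := congrArg (fun e : E => (((e : V →ₗ[k] U) u : U) : V)) (hm ((center k L).toSubmodule.mkQ x))
  change ((D x f₀ u : U) : V) = ((D x (m : V →ₗ[k] U) u : U) : V) at h
  rw [hD, hD] at h
  rw [LinearMap.mem_ker] at hu ⊢
  refine Subtype.ext ?_
  have hu' : (f₀ u : V) = ((m : V →ₗ[k] U) u : V) := congrArg Subtype.val (sub_eq_zero.1 hu)
  rw [hu', sub_right_inj] at h
  simp [f, h]

end Groth.Agent.H60.RedLR
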