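import Mathlib.Algebra.Lie.CartanCriterion
import Mathlib.Algebra.Lie.Semisimple.Lemmas
import Mathlib.Algebra.Lie.TraceForm

/-!
Casimir operators and the first Whitehead lemma.
-/

set_option autoImplicit false

universe u v w

open Module LieModule LieAlgebra

attribute [local instance] LieRing.ofAssociativeRing LieRingModule.ofAssociativeModule
attribute [local instance] LieModule.ofAssociativeModule

namespace Groth.Agent.H60.RedLR

variable {k : Type u} [Field k] [CharZero k] [IsAlgClosed k]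
  {L : Type v} [LieRing L] [LieAlgebra k L] [FiniteDimensional k L]

/-- Every ideal of a Lie algebra without radical is perfect. -/
theorem ideal_le_bracket [HasTrivialRadical k L] (K : LieIdeal k L) : K ≤ ⁅K, K⁆ := by
  set C := (⁅K, K⁆ : LieIdeal k L)ᶜ ⊓ K with hC
  have h1 : ⁅C, C⁆ = ⊥ := by
    refine le_bot_iff.1 ?_
    calc ⁅C, C⁆ ≤ (⁅K, K⁆ : LieIdeal k L)ᶜ ⊓ ⁅K, K⁆ :=
          le_inf ((LieSubmodule.lie_le_right _ _).trans inf_le_left)
            (LieSubmodule.mono_lie inf_le_right inf_le_right)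
      _ = ⊥ := compl_inf_eq_bot
  haveI : IsLieAbelian C := (LieSubmodule.lie_abelian_iff_lie_self_eq_bot C).2 h1
  have h3 : C = ⊥ := HasTrivialRadical.eq_bot_of_isSolvable C
  calc K = (⁅K, K⁆ ⊔ (⁅K, K⁆ : LieIdeal k L)ᶜ) ⊓ K := by rw [sup_compl_eq_top, top_inf_eq]
    _ = ⁅K, K⁆ ⊓ K ⊔ C := inf_sup_right _ _ _
    _ ≤ ⁅K, K⁆ := by rw [h3, sup_bot_eq]; exact inf_le_left

/-- Brackets annihilated by a linear map that kills the brackets of an ideal. -/
theorem eq_zero_of_bracket {P : Type w} [AddCommGroup P] [Module k P] [HasTrivialRadical k L]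
    (K : LieIdeal k L) (φ : L →ₗ[k] P) (h : ∀ x ∈ K, ∀ y ∈ K, φ ⁅x, y⁆ = 0) : ∀ x ∈ K, φ x = 0 := by
  intro x hx
  have h1 := ideal_le_bracket K hx
  rw [← LieSubmodule.mem_toSubmodule, LieSubmodule.lieIdeal_oper_eq_linear_span'] at h1
  refine (Submodule.span_le (p := LinearMap.ker φ)).2 ?_ h1
  rintro _ ⟨y, hy, z, hz, rfl⟩
  exact h y hy z hz

variable {M : Type w} [AddCommGroup M] [Module k M] [FiniteDimensional k M]

theorem trace_toEnd_eq_zero [HasTrivialRadical k L] (ρ : L →ₗ⁅k⁆ Module.End k M) (x : L) :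
    LinearMap.trace k M (ρ x) = 0 := by
  refine eq_zero_of_bracket ⊤ ((LinearMap.trace k M) ∘ₗ (ρ : L →ₗ[k] Module.End k M)) (fun y _ z _ => ?_) x trivial
  rw [LinearMap.comp_apply, LieHom.coe_toLinearMap, LieHom.map_lie, Ring.lie_def, map_sub,
    LinearMap.trace_mul_comm k (ρ y) (ρ z), sub_self]

/-- The trace form of an irreducible faithful image is non-degenerate. -/
theorem traceForm_range_nondegenerate [HasTrivialRadical k L] (ρ : L →ₗ⁅k⁆ Module.End k M)
    (hirr : ∀ U : Submodule k M, (∀ x, ∀ m ∈ U, ρ x m ∈ U) → U = ⊥ ∨ U = ⊤) (hne : Nontrivial M) :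
    (traceForm k ρ.range M).Nondegenerate := by
  haveI : LieModule.IsIrreducible k ρ.range M := by
    refine LieModule.IsIrreducible.mk fun U hU => ?_
    rcases hirr U.toSubmodule (fun x m hm => U.lie_mem (x := (⟨ρ x, ⟨x, rfl⟩⟩ : ρ.range)) hm) with h | h
    · exact absurd ((LieSubmodule.toSubmodule_eq_bot U).1 h) hU
    · exact (LieSubmodule.toSubmodule_eq_top U).1 h
  haveI : LieModule.IsFaithful k ρ.range M := ⟨fun a b hab => Subtype.ext hab⟩
  haveI : HasTrivialRadical k ρ.range := by
    refine hasTrivialRadical_of_isIrreducible_of_isFaithful k ρ.range M ?_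
    rintro ⟨_, x, rfl⟩
    exact trace_toEnd_eq_zero ρ x
  set r : LieIdeal k ρ.range := LieIdeal.killingCompl k ρ.range ⊥ with hr
  clear hr r
  -- the kernel of the form is an ideal
  let N : LieIdeal k ρ.range :=
    { LinearMap.ker (traceForm k ρ.range M) with
      lie_mem := fun {x m} hm => by
        simp only [Submodule.carrier_eq_coe, SetLike.mem_coe, LinearMap.mem_ker] at hm ⊢
        ext y
        rw [← lie_skew, map_neg, LinearMap.neg_apply, traceForm_apply_lie_apply, hm]
        simp }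
  have hN : N = ⊥ := by
    have hz : traceForm k N M = 0 := by
      ext a b
      change traceForm k ρ.range M a b = 0
      rw [show traceForm k ρ.range M (a : ρ.range) = 0 from a.2]
      rfl
    have hnil := isNilpotent_derivedSeries_of_traceForm_eq_zero (L := N) (M := M) hz
    set D : LieIdeal k ρ.range := ⁅N, N⁆ with hD
    have hDM : ∀ x ∈ D, ∀ m : M, (⁅x, m⁆ : M) = 0 := by
      haveI : LieModule.IsNilpotent D M := by
        rw [isNilpotent_iff_forall' (R := k)] at hnil ⊢
        rintro ⟨x, hx⟩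
        have hxN : x ∈ N := LieSubmodule.lie_le_left _ _ hx
        exact hnil ⟨⟨x, hxN⟩, by
          rw [LieIdeal.derivedSeries_eq_derivedSeriesOfIdeal_comap]
          simp only [LieIdeal.mem_comap, derivedSeriesOfIdeal_succ, derivedSeriesOfIdeal_zero]
          exact hx⟩
      haveI := hne
      haveI : Nontrivial (maxTrivSubmodule k D M) := LieModule.nontrivial_max_triv_of_isNilpotent k D M
      let T : LieSubmodule k ρ.range M :=
        { carrier := {m | ∀ x ∈ D, ⁅x, m⁆ = 0}
          add_mem' := fun {a b} ha hb x hx => by rw [lie_add, ha x hx, hb x hx, add_zero]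
          zero_mem' := fun x _ => lie_zero x
          smul_mem' := fun c m hm x hx => by rw [lie_smul, hm x hx, smul_zero]
          lie_mem := fun {y m} hm x hx => by
            rw [leibniz_lie, hm x hx, lie_zero, add_zero]
            exact hm _ (lie_mem_left k ρ.range D x y hx) }
      have hT : T = ⊤ := by
        refine (IsSimpleOrder.eq_bot_or_eq_top T).resolve_left fun h => ?_
        obtain ⟨m, hm0⟩ := exists_ne (0 : maxTrivSubmodule k D M)
        have : (m : M) ∈ T := fun x hx => m.2 ⟨x, hx⟩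
        rw [h] at this
        exact hm0 (Subtype.ext this)
      exact fun x hx m => (hT ▸ LieSubmodule.mem_top m : m ∈ T) x hx
    refine le_bot_iff.1 ((ideal_le_bracket N).trans fun x hx => ?_)
    rw [LieSubmodule.mem_bot]
    exact (toEnd_eq_zero_iff (R := k) (L := ρ.range) (M := M)).1 (LinearMap.ext (hDM x hx))
  have hsep : (traceForm k ρ.range M).SeparatingLeft := fun x hx => by
    have : x ∈ N := LinearMap.ext hx
    rw [hN, LieSubmodule.mem_bot] at this
    exact this
  refine ⟨hsep, fun y hy => hsep y fun x => ?_⟩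
  rw [traceForm_comm]; exact hy x

/-- The invariant tensor of a non-degenerate invariant form. -/
theorem sum_invariant {S : Type v} [LieRing S] [LieAlgebra k S] {P : Type w} [AddCommGroup P] [Module k P]
    {ι : Type*} [Fintype ι] [DecidableEq ι] (B : LinearMap.BilinForm k S) (hB : B.Nondegenerate)
    (hinv : ∀ x y z, B ⁅x, y⁆ z = B x ⁅y, z⁆) (b : Basis ι k S) (Φ : S →ₗ[k] S →ₗ[k] P) (a : S) :
    ∑ i, (Φ ⁅a, B.dualBasis hB b i⁆ (b i) + Φ (B.dualBasis hB b i) ⁅a, b i⁆) = 0 := by
  set b' := B.dualBasis hB b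
  have e1 : ∀ z, b'.repr z = fun i => B z (b i) := fun z => funext fun i => B.dualBasis_repr_apply hB b z i
  have e2 : ∀ z i, b.repr z i = B (b' i) z := fun z i => by
    conv_rhs => rw [← b.sum_repr z, map_sum]
    simp [b', B.apply_dualBasis_left hB b]
  rw [Finset.sum_add_distrib, add_eq_zero_iff_eq_neg]
  have h1 : ∀ i, Φ ⁅a, b' i⁆ (b i) = ∑ j, B ⁅a, b' i⁆ (b j) • Φ (b' j) (b i) := fun i => by
    conv_lhs => rw [← b'.sum_repr ⁅a, b' i⁆]
    simp [e1, LinearMap.sum_apply]
  have h2 : ∀ j, Φ (b' j) ⁅a, b j⁆ = ∑ i, B (b' i) ⁅a, b j⁆ • Φ (b' j) (b i) := fun j => by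
    conv_lhs => rw [← b.sum_repr ⁅a, b j⁆]
    simp [e2]
  simp only [h1, h2, ← Finset.sum_neg_distrib]
  rw [Finset.sum_comm]
  refine Finset.sum_congr rfl fun j _ => Finset.sum_congr rfl fun i _ => ?_
  rw [← neg_smul]
  congr 1
  rw [← hinv, ← lie_skew (b' i) a, map_neg, LinearMap.neg_apply, neg_neg]

/-- The first Whitehead lemma, for an irreducible module. -/
theorem whitehead_irreducible [HasTrivialRadical k L] (ρ : L →ₗ⁅k⁆ Module.End k M)
    (hirr : ∀ U : Submodule k M, (∀ x, ∀ m ∈ U, ρ x m ∈ U) → U = ⊥ ∨ U = ⊤) (φ : L →ₗ[k] M)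
    (hφ : ∀ x y, φ ⁅x, y⁆ = ρ x (φ y) - ρ y (φ x)) : ∃ m, ∀ x, φ x = ρ x m := by
  classical
  by_cases htriv : ∀ x, ρ x = 0
  · refine ⟨0, fun x => ?_⟩
    rw [map_zero]
    exact eq_zero_of_bracket ⊤ φ (fun y _ z _ => by simp [hφ, htriv]) x trivial
  push Not at htriv
  obtain ⟨x₀, hx₀⟩ := htriv
  have hne : Nontrivial M := by
    by_contra h
    rw [not_nontrivial_iff_subsingleton] at h
    exact hx₀ (Subsingleton.elim _ _)
  have hK : ∀ x ∈ ρ.ker, φ x = 0 := eq_zero_of_bracket ρ.ker φ fun x hx y hy => by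
    rw [hφ, show ρ x = 0 from hx, show ρ y = 0 from hy]; simp
  let π : L →ₗ[k] ρ.range := (ρ : L →ₗ[k] Module.End k M).codRestrict ρ.range.toSubmodule fun x => ⟨x, rfl⟩
  have hπ : Function.Surjective π := by rintro ⟨_, x, rfl⟩; exact ⟨x, rfl⟩
  obtain ⟨σ, hσ⟩ := π.exists_rightInverse_of_surjective (LinearMap.range_eq_top.2 hπ)
  have hσ' : ∀ x, π (σ x) = x := LinearMap.congr_fun hσ
  have hcongr : ∀ x y, π x = π y → φ x = φ y := fun x y h => by
    rw [← sub_eq_zero, ← map_sub]
    refine hK _ ?_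
    rw [LieHom.mem_ker, map_sub, sub_eq_zero]
    exact congrArg Subtype.val h
  let B := traceForm k ρ.range M
  have hB : B.Nondegenerate := traceForm_range_nondegenerate ρ hirr hne
  let b := Module.finBasis k ρ.range
  let b' := B.dualBasis hB b
  let C : Module.End k M := ∑ i, (b' i : Module.End k M) * (b i : Module.End k M)
  have hinv : ∀ x y z, B ⁅x, y⁆ z = B x ⁅y, z⁆ := traceForm_apply_lie_apply k ρ.range M
  let ΦC : ρ.range →ₗ[k] ρ.range →ₗ[k] Module.End k M :=
    (LinearMap.mul k (Module.End k M)).compl₁₂ ρ.range.toSubmodule.subtype ρ.range.toSubmodule.subtype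
  have hC : ∀ a : L, ρ a * C = C * ρ a := fun a => by
    have h := sum_invariant B hB hinv b ΦC (π a)
    simp only [ΦC, LinearMap.compl₁₂_apply, LinearMap.mul_apply', Submodule.subtype_apply,
      LieSubalgebra.coe_bracket, Ring.lie_def] at h
    rw [← sub_eq_zero, ← h]
    simp only [C, Finset.mul_sum, Finset.sum_mul, ← Finset.sum_sub_distrib]
    refine Finset.sum_congr rfl fun i _ => ?_
    change ρ a * ((b' i : Module.End k M) * (b i : Module.End k M)) - ((b' i : Module.End k M) * (b i : Module.End k M)) * ρ a =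
      (ρ a * (b' i : Module.End k M) - (b' i : Module.End k M) * ρ a) * (b i : Module.End k M) +
        (b' i : Module.End k M) * (ρ a * (b i : Module.End k M) - (b i : Module.End k M) * ρ a)
    noncomm_ring
  have hC0 : C ≠ 0 := by
    intro h
    have h1 : LinearMap.trace k M C = (Module.finrank k ρ.range : k) := by
      simp only [C, map_sum]
      rw [Finset.sum_congr rfl fun i _ => show LinearMap.trace k M ((b' i : Module.End k M) * (b i : Module.End k M)) = 1 by
        rw [show LinearMap.trace k M ((b' i : Module.End k M) * (b i : Module.End k M)) = B (b' i) (b i) from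
          (traceForm_apply_apply k ρ.range M _ _).symm]
        simp [b', B.apply_dualBasis_left hB b]]
      simp
    rw [h, map_zero, eq_comm, Nat.cast_eq_zero, Module.finrank_zero_iff] at h1
    exact hx₀ (congrArg Subtype.val (Subsingleton.elim (π x₀) 0))
  have hbij : Function.Bijective C := by
    have hker : LinearMap.ker C = ⊥ := by
      refine (hirr _ fun x m hm => ?_).resolve_right fun h => hC0 (LinearMap.ker_eq_top.1 h)
      rw [LinearMap.mem_ker] at hm ⊢
      rw [← Module.End.mul_apply, ← hC, Module.End.mul_apply, hm, map_zero]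
    exact ⟨LinearMap.ker_eq_bot.1 hker, LinearMap.surjective_of_injective (LinearMap.ker_eq_bot.1 hker)⟩
  let ΦM : ρ.range →ₗ[k] ρ.range →ₗ[k] M :=
    ρ.range.toSubmodule.subtype.compl₂ (φ.comp σ)
  obtain ⟨m, hm⟩ := hbij.2 (∑ i, (b' i : Module.End k M) (φ (σ (b i))))
  refine ⟨m, fun a => hbij.1 ?_⟩
  rw [← Module.End.mul_apply C (ρ a), ← hC, Module.End.mul_apply, hm, map_sum]
  simp only [C, LinearMap.sum_apply, Module.End.mul_apply]
  have h := sum_invariant B hB hinv b ΦM (π a)
  rw [← sub_eq_zero, ← Finset.sum_sub_distrib, ← neg_eq_zero, ← Finset.sum_neg_distrib, ← h]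
  refine Finset.sum_congr rfl fun i _ => ?_
  have e1 : φ (σ ⁅π a, b i⁆) = φ ⁅a, σ (b i)⁆ := hcongr _ _ (by
    rw [hσ']
    refine Subtype.ext ?_
    change ⁅ρ a, ((b i : ρ.range) : Module.End k M)⁆ = ρ ⁅a, σ (b i)⁆
    rw [LieHom.map_lie, show ρ (σ (b i)) = ((b i : ρ.range) : Module.End k M) from congrArg Subtype.val (hσ' (b i))])
  simp only [ΦM, LinearMap.compl₂_apply, LinearMap.comp_apply, Submodule.subtype_apply, e1, hφ]
  rw [show ρ (σ (b i)) = ((b i : ρ.range) : Module.End k M) from congrArg Subtype.val (hσ' (b i))]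
  change -((b' i : Module.End k M) ((b i : Module.End k M) (φ a)) - ρ a ((b' i : Module.End k M) (φ (σ (b i))))) =
    (ρ a * (b' i : Module.End k M) - (b' i : Module.End k M) * ρ a : Module.End k M) (φ (σ (b i))) +
      (b' i : Module.End k M) (ρ a (φ (σ (b i))) - (b i : Module.End k M) (φ a))
  rw [LinearMap.sub_apply, Module.End.mul_apply, Module.End.mul_apply, map_sub]
  abel

end Groth.Agent.H60.RedLR
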